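import Cfsg.Agent.Pronormal.EvenBN
import Mathlib.LinearAlgebra.Matrix.Transvection
import Mathlib.LinearAlgebra.Matrix.ProjectiveSpecialLinearGroup

/-!
The special linear group in characteristic 2.
-/

set_option autoImplicit false

namespace CfsgLib.Pronormal

open Matrix
open scoped MatrixGroups

variable {n : ℕ} {F : Type*} [Field F]

theorem det_unitri {g : GL (Fin n) F} (hg : g ∈ unitri n F) : (g : Matrix (Fin n) (Fin n) F).det = 1 := by
  rw [Matrix.det_of_isUpperTriangular (show (g : Matrix (Fin n) (Fin n) F).IsUpperTriangular from hg.1)]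
  exact Finset.prod_eq_one fun i _ => hg.2 i

theorem mem_range_toGL {g : GL (Fin n) F} :
    g ∈ (Matrix.SpecialLinearGroup.toGL (n := Fin n) (R := F)).range ↔
      (g : Matrix (Fin n) (Fin n) F).det = 1 :=
  ⟨by rintro ⟨s, rfl⟩; exact s.2, fun h => ⟨⟨g, h⟩, Units.ext rfl⟩⟩

theorem bruhatIn_SL : BruhatIn (Matrix.SpecialLinearGroup.toGL (n := Fin n) (R := F)).range where
  decomp g hg := by
    obtain ⟨t, π, a, ha, u, hu, rfl⟩ := exists_unitri_bruhat g
    have ha' := mem_range_toGL.mpr (det_unitri ha)
    have hu' := mem_range_toGL.mpr (det_unitri hu)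
    refine ⟨t, π, a, u, ha', ha, hu', hu, ?_, rfl⟩
    have : monoGL t π = a⁻¹ * (a * monoGL t π * u) * u⁻¹ := by group
    rw [this]
    exact mul_mem (mul_mem (inv_mem ha') hg) (inv_mem hu')
  root i j hij := by
    have hlt : i < j := Fin.lt_def.mpr (by omega)
    have hdet : (transvection i j (1 : F)).det = 1 := det_transvection_of_ne i j hlt.ne 1
    refine ⟨GeneralLinearGroup.mkOfDetNeZero (transvection i j (1 : F)) (by rw [hdet]; exact one_ne_zero),
      mem_range_toGL.mpr hdet, ⟨fun a b hab => ?_, fun a => ?_⟩, ?_⟩
    · have hab' : b < a := hab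
      change transvection i j (1 : F) a b = 0
      simp only [transvection, Matrix.add_apply, Matrix.one_apply, Matrix.single_apply,
        if_neg hab'.ne', zero_add]
      exact if_neg fun h => absurd hab' (by rw [← h.1, ← h.2]; exact hlt.le.not_gt)
    · change transvection i j (1 : F) a a = 1
      simp only [transvection, Matrix.add_apply, Matrix.one_apply_eq, Matrix.single_apply]
      rw [if_neg fun h => hlt.ne (h.1.trans h.2.symm), add_zero]
    · change transvection i j (1 : F) i j ≠ 0
      simp [transvection, hlt.ne]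

variable [Finite F]

theorem psl_invariant_even [CharP F 2] :
    SylowOvergroupsInvariant 2 (Matrix.ProjectiveSpecialLinearGroup (Fin n) F) := by
  have : Fact (Nat.Prime 2) := ⟨Nat.prime_two⟩
  let e := MonoidHom.ofInjective
    (f := Matrix.SpecialLinearGroup.toGL (n := Fin n) (R := F)) (fun a b h =>
      Subtype.ext (by have := congrArg Units.val h; exact this))
  exact invariant_of_surjective ((QuotientGroup.mk' _).comp e.symm.toMonoidHom)
    ((QuotientGroup.mk'_surjective _).comp e.symm.surjective) (bruhatIn_SL.invariant)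

end CfsgLib.Pronormal
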