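import Mathlib.LinearAlgebra.Matrix.Permutation
import Mathlib.LinearAlgebra.Matrix.GeneralLinearGroup.Defs
import Mathlib.LinearAlgebra.Matrix.Rank
import Mathlib.Data.Matrix.Block
import Mathlib.GroupTheory.Perm.Sign
import Mathlib.GroupTheory.PGroup

/-!
Block monomial matrices with `2 × 2` blocks.
-/

set_option autoImplicit false

namespace CfsgLib.Pronormal

open Matrix
open scoped MatrixGroups

variable {m : ℕ} {F : Type*} [Field F]

/-- The block monomial matrix with block `g c` in block row `c` and block column `π⁻¹ c`. -/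
def bmat (g : Fin m → Matrix (Fin 2) (Fin 2) F) (π : Equiv.Perm (Fin m)) :
    Matrix (Fin 2 × Fin m) (Fin 2 × Fin m) F :=
  Matrix.of fun x y => if x.2 = π y.2 then g x.2 x.1 y.1 else 0

theorem bmat_apply (g : Fin m → Matrix (Fin 2) (Fin 2) F) (π : Equiv.Perm (Fin m)) (a b : Fin 2) (c d : Fin m) :
    bmat g π (a, c) (b, d) = if c = π d then g c a b else 0 := rfl

theorem bmat_one : bmat (fun _ : Fin m => (1 : Matrix (Fin 2) (Fin 2) F)) 1 = 1 := by
  ext ⟨a, c⟩ ⟨b, d⟩
  rw [bmat_apply]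
  rcases eq_or_ne c d with rfl | h
  · simp [Matrix.one_apply]
  · simp [h]

theorem bmat_mul (g g' : Fin m → Matrix (Fin 2) (Fin 2) F) (π π' : Equiv.Perm (Fin m)) :
    bmat g π * bmat g' π' = bmat (fun c => g c * g' (π.symm c)) (π * π') := by
  ext ⟨a, c⟩ ⟨b, d⟩
  rw [Matrix.mul_apply, Fintype.sum_prod_type, bmat_apply, Matrix.mul_apply]
  by_cases h : c = (π * π') d
  · rw [if_pos h]
    refine Finset.sum_congr rfl fun k _ => ?_
    rw [Finset.sum_eq_single (π' d)]
    · rw [bmat_apply, if_pos (by rw [h]; rfl), bmat_apply, if_pos rfl]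
      rw [show π.symm c = π' d by rw [h]; simp]
    · intro e _ he
      rw [bmat_apply g', if_neg he, mul_zero]
    · simp
  · rw [if_neg h]
    refine Finset.sum_eq_zero fun k _ => Finset.sum_eq_zero fun e _ => ?_
    by_cases he : e = π' d
    · subst he
      rw [bmat_apply, if_neg fun e => h (by rw [e]; rfl), zero_mul]
    · rw [bmat_apply g', if_neg he, mul_zero]

theorem det_bmat (g : Fin m → Matrix (Fin 2) (Fin 2) F) (π : Equiv.Perm (Fin m)) :
    (bmat g π).det = ∏ c, (g c).det := by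
  have h1 : bmat g π = Matrix.blockDiagonal g * bmat (fun _ => 1) π := by
    have : Matrix.blockDiagonal g = bmat g 1 := by
      ext ⟨a, c⟩ ⟨b, d⟩
      simp only [Matrix.blockDiagonal_apply, bmat_apply, Equiv.Perm.one_apply]
      exact if_congr Iff.rfl rfl rfl
    rw [this, bmat_mul]
    simp
  have h2 : bmat (fun _ : Fin m => (1 : Matrix (Fin 2) (Fin 2) F)) π =
      Equiv.Perm.permMatrix F (Equiv.prodCongrRight fun _ : Fin 2 => π⁻¹) := by
    ext ⟨a, c⟩ ⟨b, d⟩
    change (if c = π d then ((1 : Matrix (Fin 2) (Fin 2) F) a b) else 0) = _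
    rw [Equiv.Perm.permMatrix, PEquiv.toMatrix_apply]
    simp only [Equiv.toPEquiv_apply, Option.mem_def, Option.some.injEq, Equiv.prodCongrRight_apply,
      Prod.mk.injEq, Matrix.one_apply]
    by_cases h : c = π d
    · subst h; simp
    · rw [if_neg h, if_neg fun e => h (by rw [← e.2]; simp)]
  rw [h1, det_mul, Matrix.det_blockDiagonal, h2, Matrix.det_permutation, Equiv.Perm.sign_prodCongrRight]
  have : Equiv.Perm.sign π⁻¹ * Equiv.Perm.sign π⁻¹ = 1 := Int.units_mul_self _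
  simp

/-- Block monomial matrices as units. -/
def bmGL (g : Fin m → GL (Fin 2) F) (π : Equiv.Perm (Fin m)) : GL (Fin 2 × Fin m) F :=
  ⟨bmat (fun c => (g c : Matrix (Fin 2) (Fin 2) F)) π,
    bmat (fun c => (((g (π c))⁻¹ : GL (Fin 2) F) : Matrix (Fin 2) (Fin 2) F)) π⁻¹,
    by
      rw [bmat_mul, mul_inv_cancel, ← bmat_one]
      congr 1
      funext c
      rw [← Units.val_mul, show π (π.symm c) = c from π.apply_symm_apply c, mul_inv_cancel, Units.val_one],
    by
      rw [bmat_mul, inv_mul_cancel, ← bmat_one]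
      congr 1
      funext c
      rw [← Units.val_mul, show (π⁻¹ : Equiv.Perm (Fin m)).symm c = π c from rfl, inv_mul_cancel,
        Units.val_one]⟩

theorem bmGL_val (g : Fin m → GL (Fin 2) F) (π : Equiv.Perm (Fin m)) :
    ((bmGL g π : GL (Fin 2 × Fin m) F) : Matrix (Fin 2 × Fin m) (Fin 2 × Fin m) F) =
      bmat (fun c => (g c : Matrix (Fin 2) (Fin 2) F)) π := rfl

theorem bmGL_mul (g g' : Fin m → GL (Fin 2) F) (π π' : Equiv.Perm (Fin m)) :
    bmGL g π * bmGL g' π' = bmGL (fun c => g c * g' (π.symm c)) (π * π') :=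
  Units.ext (by simp [bmGL_val, bmat_mul])

theorem bmGL_one : bmGL (fun _ : Fin m => (1 : GL (Fin 2) F)) 1 = 1 :=
  Units.ext (by simp [bmGL_val, bmat_one])

theorem bmGL_inv (g : Fin m → GL (Fin 2) F) (π : Equiv.Perm (Fin m)) :
    (bmGL g π)⁻¹ = bmGL (fun c => (g (π c))⁻¹) π⁻¹ := Units.ext rfl

theorem bmGL_pow_diag (g : Fin m → GL (Fin 2) F) (k : ℕ) :
    bmGL g 1 ^ k = bmGL (fun c => g c ^ k) 1 := by
  induction k with
  | zero => simp [bmGL_one]
    | succ k ih => rw [pow_succ, ih, bmGL_mul, mul_one]; simp only [pow_succ]; rfl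

theorem bmat_injective {g g' : Fin m → Matrix (Fin 2) (Fin 2) F} {π π' : Equiv.Perm (Fin m)}
    (hg : ∀ c, g c ≠ 0) (h : bmat g π = bmat g' π') : g = g' ∧ π = π' := by
  have hπ : π = π' := by
    refine Equiv.ext fun d => ?_
    by_contra hne
    refine hg (π d) (Matrix.ext fun a b => ?_)
    have := congrFun (congrFun h (a, π d)) (b, d)
    rwa [bmat_apply, if_pos rfl, bmat_apply, if_neg hne] at this
  subst hπ
  refine ⟨funext fun c => Matrix.ext fun a b => ?_, rfl⟩
  have := congrFun (congrFun h (a, c)) (b, π.symm c)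
  rwa [bmat_apply, if_pos (by simp), bmat_apply, if_pos (by simp)] at this

theorem bmGL_injective {g g' : Fin m → GL (Fin 2) F} {π π' : Equiv.Perm (Fin m)}
    (h : bmGL g π = bmGL g' π') : g = g' ∧ π = π' := by
  obtain ⟨h1, h2⟩ := bmat_injective (g' := fun c => (g' c : Matrix (Fin 2) (Fin 2) F)) (fun c => (g c).ne_zero)
    (congrArg Units.val h)
  exact ⟨funext fun c => Units.ext (congrFun h1 c), h2⟩

/-- Block monomial subgroup with blocks in `S` and permutation part in `P`. -/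
def bmGroup (S : Subgroup (GL (Fin 2) F)) (P : Subgroup (Equiv.Perm (Fin m))) :
    Subgroup (GL (Fin 2 × Fin m) F) where
  carrier := {x | ∃ (g : Fin m → GL (Fin 2) F) (π : Equiv.Perm (Fin m)),
    (∀ c, g c ∈ S) ∧ π ∈ P ∧ x = bmGL g π}
  one_mem' := ⟨fun _ => 1, 1, fun _ => one_mem S, one_mem P, bmGL_one.symm⟩
  mul_mem' := by
    rintro _ _ ⟨g, π, hg, hπ, rfl⟩ ⟨g', π', hg', hπ', rfl⟩
    exact ⟨_, _, fun c => mul_mem (hg c) (hg' _), mul_mem hπ hπ', bmGL_mul g g' π π'⟩
  inv_mem' := by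
    rintro _ ⟨g, π, hg, hπ, rfl⟩
    exact ⟨_, _, fun c => inv_mem (hg _), inv_mem hπ, bmGL_inv g π⟩

theorem isPGroup_bmGroup [Finite F] {p : ℕ} [Fact p.Prime] {S : Subgroup (GL (Fin 2) F)}
    {P : Subgroup (Equiv.Perm (Fin m))} (hS : IsPGroup p S) (hP : IsPGroup p P) :
    IsPGroup p (bmGroup S P) := by
  obtain ⟨l, hl⟩ := IsPGroup.iff_card.mp hS
  rintro ⟨_, g, π, hg, hπ, rfl⟩
  obtain ⟨k, hk⟩ := hP ⟨π, hπ⟩
  have hk' : π ^ p ^ k = 1 := by simpa using congrArg Subtype.val hk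
  have key : ∀ j : ℕ, ∃ g' : Fin m → GL (Fin 2) F, (∀ c, g' c ∈ S) ∧ bmGL g π ^ j = bmGL g' (π ^ j) := by
    intro j
    induction j with
    | zero => exact ⟨fun _ => 1, fun _ => one_mem S, by simp [bmGL_one]⟩
    | succ j ih =>
      obtain ⟨g', hg', he⟩ := ih
      exact ⟨_, fun c => mul_mem (hg' c) (hg _), by rw [pow_succ, he, bmGL_mul, ← pow_succ]⟩
  obtain ⟨g', hg', he⟩ := key (p ^ k)
  refine ⟨k + l, Subtype.ext ?_⟩
  rw [SubmonoidClass.coe_pow, pow_add, pow_mul]
  change (bmGL g π ^ p ^ k) ^ p ^ l = 1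
  rw [he, hk', bmGL_pow_diag, ← bmGL_one]
  congr 1
  funext c
  have := pow_card_eq_one' (x := (⟨g' c, hg' c⟩ : S))
  rw [hl] at this
  simpa using congrArg Subtype.val this

end CfsgLib.Pronormal
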