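import Cfsg.Prelude.Def_HallClasses
import Mathlib.GroupTheory.Nilpotent

/-!
Pronormality of subgroups of `p'`-index when overgroups of a Sylow subgroup are normalised by
its normaliser, transported along a surjection.
-/

set_option autoImplicit false

namespace CfsgLib.Pronormal

variable {G : Type*} [Group G]

/-- A finite `p`-subgroup containing every `p`-element of its normaliser is a Sylow subgroup. -/
theorem exists_sylow_eq_of_pElements [Finite G] {p : ℕ} [Fact p.Prime] {Q : Subgroup G} (hQ : IsPGroup p Q)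
    (hN : ∀ x ∈ Subgroup.normalizer (Q : Set G), (∃ k : ℕ, x ^ p ^ k = 1) → x ∈ Q) :
    ∃ P : Sylow p G, (P : Subgroup G) = Q := by
  obtain ⟨P, hP⟩ := hQ.exists_le_sylow
  refine ⟨P, ?_⟩
  by_contra hne
  have : Group.IsNilpotent (P : Subgroup G) := P.2.isNilpotent
  have hlt : Q.subgroupOf P < ⊤ := lt_top_iff_ne_top.mpr fun h =>
    hne (le_antisymm (Subgroup.subgroupOf_eq_top.mp h) hP)
  obtain ⟨⟨x, hxP⟩, hx, hxQ⟩ := SetLike.exists_of_lt (Group.normalizerCondition_of_isNilpotent _ hlt)
  apply hxQ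
  rw [Subgroup.mem_subgroupOf]
  obtain ⟨k, hk⟩ := P.2 ⟨x, hxP⟩
  refine hN x ?_ ⟨k, by simpa using congrArg Subtype.val hk⟩
  refine Subgroup.mem_normalizer_iff.mpr fun y => ?_
  have key := Subgroup.mem_normalizer_iff.mp hx
  constructor
  · intro hy
    simpa [Subgroup.mem_subgroupOf] using
      (key ⟨y, hP hy⟩).mp (by simpa [Subgroup.mem_subgroupOf] using hy)
  · intro hy
    have hyP : y ∈ (P : Subgroup G) := by
      have h2 := (P : Subgroup G).mul_mem ((P : Subgroup G).mul_mem
        ((P : Subgroup G).inv_mem hxP) (hP hy)) hxP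
      simpa [mul_assoc] using h2
    simpa [Subgroup.mem_subgroupOf] using
      (key ⟨y, hyP⟩).mpr (by simpa [Subgroup.mem_subgroupOf] using hy)

/-- Conjugates of pronormal subgroups are pronormal. -/
theorem isPronormal_map_iff {G₂ : Type*} [Group G₂] (e : G ≃* G₂) (H : Subgroup G)
    (h : Cfsg.IsPronormal.{_} H) (g : G₂) :
    ∃ x ∈ H.map e.toMonoidHom ⊔ (H.map e.toMonoidHom).map (MulAut.conj g).toMonoidHom,
      (H.map e.toMonoidHom).map (MulAut.conj g).toMonoidHom =
        (H.map e.toMonoidHom).map (MulAut.conj x).toMonoidHom := by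
  have hc : ∀ y : G, (H.map e.toMonoidHom).map (MulAut.conj (e y)).toMonoidHom =
      (H.map (MulAut.conj y).toMonoidHom).map e.toMonoidHom := by
    intro y
    rw [Subgroup.map_map, Subgroup.map_map]
    congr 1
    ext z
    simp
  obtain ⟨x, hx, he⟩ := h (e.symm g)
  obtain ⟨y, rfl⟩ : ∃ y, e y = g := ⟨e.symm g, e.apply_symm_apply g⟩
  simp only [MulEquiv.symm_apply_apply] at hx he
  refine ⟨e x, ?_, by rw [hc, hc, he]⟩
  rw [hc, ← Subgroup.map_sup]
  exact Subgroup.mem_map_of_mem _ hx

/-- If the normaliser of a Sylow subgroup of `H` normalises `H`, then `H` is pronormal. -/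
theorem isPronormal_of_normalizer_le [Finite G] {p : ℕ} [Fact p.Prime] (P : Sylow p G) {H : Subgroup G}
    (hP : (P : Subgroup G) ≤ H)
    (hN : Subgroup.normalizer ((P : Subgroup G) : Set G) ≤ Subgroup.normalizer (H : Set G)) :
    Cfsg.IsPronormal H := by
  intro g
  set K := H ⊔ H.map (MulAut.conj g).toMonoidHom
  have h1 : (P : Subgroup G) ≤ K := hP.trans le_sup_left
  have h2 : ((g • P : Sylow p G) : Subgroup G) ≤ K := by
    refine le_trans ?_ le_sup_right
    rw [Sylow.coe_subgroup_smul, Subgroup.pointwise_smul_def]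
    exact Subgroup.map_mono hP
  obtain ⟨⟨x, hxK⟩, hx⟩ := MulAction.exists_smul_eq K (P.subtype h1) ((g • P).subtype h2)
  refine ⟨x, hxK, ?_⟩
  rw [Sylow.smul_subtype h1 ⟨x, hxK⟩] at hx
  have hx' : g • P = x • P := (Sylow.subtype_injective hx).symm
  have hn : x⁻¹ * g ∈ Subgroup.normalizer ((P : Subgroup G) : Set G) :=
    Sylow.smul_eq_iff_mem_normalizer.mp (by rw [mul_smul, hx', inv_smul_smul])
  have key : H.map (MulAut.conj (x⁻¹ * g)).toMonoidHom = H := by
    have hH := Subgroup.mem_normalizer_iff.mp (hN hn)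
    ext y
    constructor
    · rintro ⟨z, hz, rfl⟩
      exact (hH z).mp hz
    · intro hy
      refine ⟨(x⁻¹ * g)⁻¹ * y * (x⁻¹ * g), (hH _).mpr ?_, ?_⟩
      · simpa [mul_assoc] using hy
      · simp [mul_assoc]
  conv_rhs => rw [← key]
  rw [Subgroup.map_map]
  congr 1
  ext y
  simp [mul_assoc]

/-- The property used upstairs: the normaliser of a Sylow subgroup normalises all its overgroups. -/
def SylowOvergroupsInvariant (p : ℕ) (G : Type*) [Group G] : Prop :=
  ∃ S : Sylow p G, ∀ H : Subgroup G, (S : Subgroup G) ≤ H →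
    Subgroup.normalizer ((S : Subgroup G) : Set G) ≤ Subgroup.normalizer (H : Set G)

theorem isPronormal_of_invariant [Finite G] {p : ℕ} [Fact p.Prime] (hG : SylowOvergroupsInvariant p G)
    {H : Subgroup G} (hH : ¬ p ∣ H.index) : Cfsg.IsPronormal H := by
  obtain ⟨S, hS⟩ := hG
  obtain ⟨P, hP⟩ : ∃ P : Sylow p G, (P : Subgroup G) ≤ H := by
    obtain ⟨P⟩ := (inferInstance : Nonempty (Sylow p H))
    have hp : IsPGroup p ((P : Subgroup H).map H.subtype) := P.2.map _
    refine ⟨hp.toSylow ?_, Subgroup.map_subtype_le _⟩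
    rw [Subgroup.index_map_subtype]
    exact (Fact.out : p.Prime).not_dvd_mul P.not_dvd_index hH
  obtain ⟨g, rfl⟩ := MulAction.exists_smul_eq G S P
  set e : G ≃* G := MulAut.conj g
  have hle : (S : Subgroup G) ≤ H.map e.symm.toMonoidHom := by
    intro y hy
    refine ⟨e y, hP ?_, e.symm_apply_apply y⟩
    rw [Sylow.coe_subgroup_smul, Subgroup.pointwise_smul_def]
    exact Subgroup.mem_map_of_mem _ hy
  have h1 := isPronormal_of_normalizer_le S hle (hS _ hle)
  intro x
  have := isPronormal_map_iff e _ h1 x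
  have he : (H.map e.symm.toMonoidHom).map e.toMonoidHom = H := by
    rw [Subgroup.map_map]
    convert Subgroup.map_id H
    ext y
    simp
  rwa [he] at this

theorem invariant_of_surjective [Finite G] {p : ℕ} [Fact p.Prime] {Gq : Type*} [Group Gq] (f : G →* Gq)
    (hf : Function.Surjective f) (hG : SylowOvergroupsInvariant p G) : SylowOvergroupsInvariant p Gq := by
  obtain ⟨S, hS⟩ := hG
  have : Finite Gq := Finite.of_surjective f hf
  refine ⟨S.mapSurjective hf, fun H hle x hx => ?_⟩
  set K : Subgroup G := ((S.mapSurjective hf : Sylow p Gq) : Subgroup Gq).comap f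
  have hSK : (S : Subgroup G) ≤ K := fun s hs => Subgroup.mem_map_of_mem f hs
  obtain ⟨y, rfl⟩ := hf x
  have h2 : ((y • S : Sylow p G) : Subgroup G) ≤ K := by
    rw [Sylow.coe_subgroup_smul, Subgroup.pointwise_smul_def]
    rintro _ ⟨s, hs, rfl⟩
    have := (Subgroup.mem_normalizer_iff.mp hx (f s)).mp (Subgroup.mem_map_of_mem f hs)
    change y * s * y⁻¹ ∈ K
    simpa [K, Subgroup.mem_comap] using this
  obtain ⟨⟨k, hk⟩, hk'⟩ := MulAction.exists_smul_eq K (S.subtype hSK) ((y • S).subtype h2)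
  rw [Sylow.smul_subtype hSK ⟨k, hk⟩] at hk'
  have hk2 : y • S = k • S := (Sylow.subtype_injective hk').symm
  have hn : k⁻¹ * y ∈ Subgroup.normalizer ((S : Subgroup G) : Set G) :=
    Sylow.smul_eq_iff_mem_normalizer.mp (by rw [mul_smul, hk2, inv_smul_smul])
  have hH : (S : Subgroup G) ≤ H.comap f := fun s hs => hle (Subgroup.mem_map_of_mem f hs)
  have hn' := hS _ hH hn
  have hfn : f (k⁻¹ * y) ∈ Subgroup.normalizer (H : Set Gq) := by
    refine Subgroup.mem_normalizer_iff.mpr fun z => ?_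
    obtain ⟨z, rfl⟩ := hf z
    simpa using Subgroup.mem_normalizer_iff.mp hn' z
  have hfk : f k ∈ Subgroup.normalizer (H : Set Gq) := Subgroup.le_normalizer (hle hk)
  have := mul_mem hfk hfn
  simpa using this

end CfsgLib.Pronormal
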