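import Cfsg.Agent.GLn.Bruhat
import Cfsg.Agent.Pronormal.Criterion
import Mathlib.LinearAlgebra.Matrix.Charpoly.Basic
import Mathlib.FieldTheory.Finite.Basic

/-!
Subgroups of `GL_n` in characteristic 2 with a Bruhat decomposition inherited from the ambient group:
overgroups of the unitriangular Sylow 2-subgroup are normalised by its normaliser.
-/

set_option autoImplicit false
set_option linter.unusedSectionVars false

namespace CfsgLib.Pronormal

open Matrix
open scoped MatrixGroups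

variable {n : ℕ} {F : Type*} [Field F]

/-- Upper unitriangular matrices. -/
def unitri (n : ℕ) (F : Type*) [Field F] : Subgroup (GL (Fin n) F) where
  carrier := {g | g ∈ Cfsg.upperTriangularGL n F ∧ ∀ i, (g : Matrix (Fin n) (Fin n) F) i i = 1}
  one_mem' := ⟨one_mem _, fun i => by simp⟩
  mul_mem' {a b} ha hb := ⟨mul_mem ha.1 hb.1, fun i => by
    rw [Units.val_mul, Matrix.mul_apply, Finset.sum_eq_single i, ha.2, hb.2, one_mul]
    · intro k _ hk
      rcases lt_or_gt_of_ne hk with h | h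
      · rw [ha.1 h, zero_mul]
      · rw [hb.1 h, mul_zero]
    · simp⟩
  inv_mem' {a} ha := ⟨inv_mem ha.1, fun i => by
    have h : ((a⁻¹ * a : GL (Fin n) F) : Matrix (Fin n) (Fin n) F) i i = 1 := by simp
    rw [Units.val_mul, Matrix.mul_apply, Finset.sum_eq_single i, ha.2, mul_one] at h
    · exact h
    · intro k _ hk
      rcases lt_or_gt_of_ne hk with h' | h'
      · rw [(inv_mem ha.1) h', zero_mul]
      · rw [ha.1 h', mul_zero]
    · simp⟩

theorem upper_apply {g : GL (Fin n) F} (hg : g ∈ Cfsg.upperTriangularGL n F) {i j : Fin n} (h : j < i) :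
    (g : Matrix (Fin n) (Fin n) F) i j = 0 := hg h

theorem upper_mul_diag {a b : GL (Fin n) F} (ha : a ∈ Cfsg.upperTriangularGL n F)
    (hb : b ∈ Cfsg.upperTriangularGL n F) (i : Fin n) :
    ((a * b : GL (Fin n) F) : Matrix (Fin n) (Fin n) F) i i =
      (a : Matrix (Fin n) (Fin n) F) i i * (b : Matrix (Fin n) (Fin n) F) i i := by
  rw [Units.val_mul, Matrix.mul_apply, Finset.sum_eq_single i]
  · intro k _ hk
    rcases lt_or_gt_of_ne hk with h | h
    · rw [upper_apply ha h, zero_mul]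
    · rw [upper_apply hb h, mul_zero]
  · simp

/-- Diagonal matrices. -/
noncomputable def diagGL : (Fin n → Fˣ) →* GL (Fin n) F where
  toFun t := ⟨diagonal fun i => (t i : F), diagonal fun i => ((t i)⁻¹ : Fˣ), by
    rw [diagonal_mul_diagonal]; simp, by rw [diagonal_mul_diagonal]; simp⟩
  map_one' := Units.ext (by simp)
  map_mul' s t := Units.ext (by simp [diagonal_mul_diagonal])

theorem diagGL_val (t : Fin n → Fˣ) :
    ((diagGL t : GL (Fin n) F) : Matrix (Fin n) (Fin n) F) = diagonal fun i => (t i : F) := rfl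

theorem diag_mem_upper (t : Fin n → Fˣ) : diagGL t ∈ Cfsg.upperTriangularGL n F :=
  fun _ _ h => diagonal_apply_ne _ (fun e => (ne_of_gt h) e)

theorem diag_conj_apply (t : Fin n → Fˣ) (g : GL (Fin n) F) (i j : Fin n) :
    ((diagGL t * g * (diagGL t)⁻¹ : GL (Fin n) F) : Matrix (Fin n) (Fin n) F) i j =
      (t i : F) * (g : Matrix (Fin n) (Fin n) F) i j * ((t j)⁻¹ : Fˣ) := by
  rw [← map_inv, Units.val_mul, Units.val_mul, diagGL_val, diagGL_val, mul_diagonal, diagonal_mul]
  simp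

theorem diag_conj_mem {g : GL (Fin n) F} (hg : g ∈ unitri n F) (t : Fin n → Fˣ) :
    diagGL t * g * (diagGL t)⁻¹ ∈ unitri n F := by
  refine ⟨mul_mem (mul_mem (diag_mem_upper t) hg.1) (inv_mem (diag_mem_upper t)), fun i => ?_⟩
  rw [diag_conj_apply, hg.2]; simp

/-- Monomial matrices. -/
noncomputable def monoGL (t : Fin n → Fˣ) (π : Equiv.Perm (Fin n)) : GL (Fin n) F :=
  diagGL t * CfsgLib.GLn.permGL F π

theorem monoGL_apply (t : Fin n → Fˣ) (π : Equiv.Perm (Fin n)) (i j : Fin n) :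
    ((monoGL t π : GL (Fin n) F) : Matrix (Fin n) (Fin n) F) i j = if π j = i then (t i : F) else 0 := by
  simp [monoGL, Units.val_mul, diagGL_val, diagonal_mul, CfsgLib.GLn.permGL_apply]

theorem permGL_conj_diag (π : Equiv.Perm (Fin n)) (t : Fin n → Fˣ) :
    CfsgLib.GLn.permGL F π * diagGL t = diagGL (fun i => t (π.symm i)) * CfsgLib.GLn.permGL F π := by
  refine Units.ext (Matrix.ext fun i j => ?_)
  simp only [Units.val_mul, diagGL_val, diagonal_mul, mul_diagonal, CfsgLib.GLn.permGL_apply]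
  split_ifs with h
  · subst h; simp
  · simp

theorem diag_monoGL (s t : Fin n → Fˣ) (π : Equiv.Perm (Fin n)) :
    diagGL s * monoGL t π = monoGL (s * t) π := by
  simp [monoGL, mul_assoc]

theorem monoGL_diag (t s : Fin n → Fˣ) (π : Equiv.Perm (Fin n)) :
    monoGL t π * diagGL s = monoGL (t * fun i => s (π.symm i)) π := by
  rw [monoGL, monoGL, mul_assoc, permGL_conj_diag, ← mul_assoc, ← map_mul]

theorem monoGL_conj_diag (t s : Fin n → Fˣ) (π : Equiv.Perm (Fin n)) :
    monoGL t π * diagGL s * (monoGL t π)⁻¹ = diagGL fun i => s (π.symm i) := by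
  rw [mul_inv_eq_iff_eq_mul, monoGL_diag, diag_monoGL, mul_comm]

theorem monoGL_eq_diag_of_upper {t : Fin n → Fˣ} {π : Equiv.Perm (Fin n)}
    (h : monoGL t π ∈ Cfsg.upperTriangularGL n F) : π = 1 := by
  have hle : ∀ j, π j ≤ j := fun j => by
    by_contra hlt
    have := upper_apply h (not_le.mp hlt)
    rw [monoGL_apply, if_pos rfl] at this
    exact (t _).ne_zero this
  ext1 j
  induction j using WellFoundedLT.induction with
  | _ j ih =>
    rcases (hle j).eq_or_lt with e | e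
    · exact e
    · exact π.injective (ih _ e)

/-- Entries of a conjugate by a monomial matrix. -/
theorem monoGL_conj_apply (t : Fin n → Fˣ) (π : Equiv.Perm (Fin n)) (g : GL (Fin n) F) (i j : Fin n) :
    ((monoGL t π * g * (monoGL t π)⁻¹ : GL (Fin n) F) : Matrix (Fin n) (Fin n) F) (π i) (π j) =
      (t (π i) : F) * (g : Matrix (Fin n) (Fin n) F) i j * ((t (π j))⁻¹ : Fˣ) := by
  have : monoGL t π * g * (monoGL t π)⁻¹ =
      diagGL t * (CfsgLib.GLn.permGL F π * g * CfsgLib.GLn.permGL F π⁻¹) * (diagGL t)⁻¹ := by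
    simp [monoGL, mul_assoc]
  rw [this, diag_conj_apply]
  congr 2
  rw [Units.val_mul, Units.val_mul, Matrix.mul_apply, Finset.sum_eq_single j]
  · rw [Matrix.mul_apply, Finset.sum_eq_single i]
    · rw [CfsgLib.GLn.permGL_apply, CfsgLib.GLn.permGL_apply, if_pos rfl, if_pos (by simp), one_mul,
        mul_one]
    · intro k _ hk
      rw [CfsgLib.GLn.permGL_apply, if_neg fun e => hk (π.injective e), zero_mul]
    · simp
  · intro k _ hk
    rw [CfsgLib.GLn.permGL_apply π⁻¹, if_neg fun e => hk ?_, mul_zero]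
    simpa using e.symm
  · simp

theorem exists_unitri_diag {b : GL (Fin n) F} (hb : b ∈ Cfsg.upperTriangularGL n F) :
    ∃ t : Fin n → Fˣ, (∀ i, (t i : F) = (b : Matrix (Fin n) (Fin n) F) i i) ∧
      b * (diagGL t)⁻¹ ∈ unitri n F := by
  have hne : ∀ i, (b : Matrix (Fin n) (Fin n) F) i i ≠ 0 := by
    intro i hi
    have h := upper_mul_diag (inv_mem hb) hb i
    rw [hi, mul_zero, inv_mul_cancel] at h
    simp at h
  refine ⟨fun i => Units.mk0 _ (hne i), fun i => rfl,
    mul_mem hb (inv_mem (diag_mem_upper _)), fun i => ?_⟩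
  rw [← map_inv, upper_mul_diag hb (diag_mem_upper _), diagGL_val, diagonal_apply_eq]
  simp [hne i]

theorem exists_unitri_bruhat (g : GL (Fin n) F) :
    ∃ (t : Fin n → Fˣ) (π : Equiv.Perm (Fin n)), ∃ a ∈ unitri n F, ∃ u ∈ unitri n F,
      g = a * monoGL t π * u := by
  obtain ⟨π, b, hb, v, hv, rfl⟩ := CfsgLib.GLn.exists_bruhat g
  obtain ⟨s, -, ha⟩ := exists_unitri_diag hb
  obtain ⟨r, -, hc⟩ := exists_unitri_diag hv
  refine ⟨s * fun i => r (π.symm i), π, _, ha, (diagGL r)⁻¹ * (v * (diagGL r)⁻¹) * diagGL r, ?_, ?_⟩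
  · have := diag_conj_mem hc r⁻¹
    simpa using this
  · rw [← monoGL_diag, monoGL]
    group

theorem unitri_isPGroup [CharP F 2] {g : GL (Fin n) F} (hg : g ∈ unitri n F) :
    ∃ k : ℕ, g ^ 2 ^ k = 1 := by
  refine ⟨n, ?_⟩
  have htri : (g : Matrix (Fin n) (Fin n) F).IsUpperTriangular := hg.1
  have hchar : (g : Matrix (Fin n) (Fin n) F).charpoly =
      (Polynomial.X - Polynomial.C 1) ^ n := by
    rw [Matrix.charpoly_of_isUpperTriangular _ htri]
    simp [hg.2]
  have h0 : ((g : Matrix (Fin n) (Fin n) F) - 1) ^ n = 0 := by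
    have := Matrix.aeval_self_charpoly (g : Matrix (Fin n) (Fin n) F)
    rw [hchar] at this
    simpa using this
  cases n with
  | zero => exact Subsingleton.elim _ _
  | succ m =>
    have h1 : ((g : Matrix (Fin (m + 1)) (Fin (m + 1)) F) - 1) ^ 2 ^ (m + 1) = 0 :=
      pow_eq_zero_of_le (Nat.lt_two_pow_self).le h0
    rw [sub_pow_char_pow_of_commute _ _ (Commute.one_right _), one_pow, sub_eq_zero] at h1
    exact Units.ext (by rw [Units.val_pow_eq_pow_val, h1, Units.val_one])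

/-- A subgroup of `GL_n` inheriting the Bruhat decomposition and all simple root directions. -/
structure BruhatIn (G : Subgroup (GL (Fin n) F)) : Prop where
  decomp : ∀ g ∈ G, ∃ (t : Fin n → Fˣ) (π : Equiv.Perm (Fin n)) (a u : GL (Fin n) F),
    a ∈ G ∧ a ∈ unitri n F ∧ u ∈ G ∧ u ∈ unitri n F ∧ monoGL t π ∈ G ∧ g = a * monoGL t π * u
  root : ∀ i j : Fin n, (i : ℕ) + 1 = j → ∃ x ∈ G, x ∈ unitri n F ∧ (x : Matrix (Fin n) (Fin n) F) i j ≠ 0

theorem perm_eq_one_of_adjacent {π : Equiv.Perm (Fin n)}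
    (h : ∀ i j : Fin n, (i : ℕ) + 1 = j → π i < π j) : π = 1 := by
  have hmono : StrictMono π := by
    cases n with
    | zero => exact fun i => i.elim0
    | succ m => exact Fin.strictMono_iff_lt_succ.mpr fun i => h _ _ (by simp)
  ext i
  have : (π : Fin n → Fin n) = id :=
    (hmono.range_inj strictMono_id).mp (by rw [Set.range_id, π.surjective.range_eq])
  simp [this]

theorem BruhatIn.invariant [Finite F] [CharP F 2] {G : Subgroup (GL (Fin n) F)} (hG : BruhatIn G) :
    SylowOvergroupsInvariant 2 G := by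
  have : Fintype F := Fintype.ofFinite F
  set U : Subgroup G := (unitri n F).subgroupOf G
  have hUp : IsPGroup 2 U := fun x => by
    obtain ⟨k, hk⟩ := unitri_isPGroup (n := n) (F := F) (g := ((x : G) : GL (Fin n) F)) x.2
    exact ⟨k, Subtype.ext (Subtype.ext (by simpa using hk))⟩
  have hNB : ∀ x ∈ Subgroup.normalizer (U : Set G), (x : GL (Fin n) F) ∈ Cfsg.upperTriangularGL n F := by
    intro x hx
    obtain ⟨t, π, a, u, ha, haU, hu, huU, hm, he⟩ := hG.decomp x x.2
    have hmN : (⟨_, hm⟩ : G) ∈ Subgroup.normalizer (U : Set G) := by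
      have hx' : (⟨_, hm⟩ : G) = ⟨a, ha⟩⁻¹ * x * ⟨u, hu⟩⁻¹ := Subtype.ext (by simp [he, mul_assoc])
      rw [hx']
      exact mul_mem (mul_mem (inv_mem (Subgroup.le_normalizer (show (⟨a, ha⟩ : G) ∈ U from haU))) hx)
        (inv_mem (Subgroup.le_normalizer (show (⟨u, hu⟩ : G) ∈ U from huU)))
    have hπ : π = 1 := by
      refine perm_eq_one_of_adjacent fun i j hij => ?_
      obtain ⟨y, hy, hyU, hne⟩ := hG.root i j hij
      have h := (Subgroup.mem_normalizer_iff.mp hmN ⟨y, hy⟩).mp hyU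
      by_contra hlt
      have hij' : π i ≠ π j := fun e => by simp [π.injective e] at hij
      have h0 := upper_apply h.1 (lt_of_le_of_ne (not_lt.mp hlt) hij'.symm)
      rw [Subgroup.coe_subtype, Subgroup.coe_mul, Subgroup.coe_mul, Subgroup.coe_inv,
        monoGL_conj_apply] at h0
      simp [hne] at h0
    subst hπ
    rw [he]
    refine mul_mem (mul_mem haU.1 ?_) huU.1
    simpa [monoGL] using diag_mem_upper t
  have hsplit : ∀ x : G, (x : GL (Fin n) F) ∈ Cfsg.upperTriangularGL n F →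
      ∃ (t : Fin n → Fˣ) (u : GL (Fin n) F) (_ : u ∈ G), diagGL t ∈ G ∧ u ∈ unitri n F ∧
        (x : GL (Fin n) F) = u * diagGL t := by
    intro x hx
    obtain ⟨t, π, a, u, ha, haU, hu, huU, hm, he⟩ := hG.decomp x x.2
    have hπ : π = 1 := monoGL_eq_diag_of_upper (t := t) (by
      have : monoGL t π = a⁻¹ * x * u⁻¹ := by simp [he, mul_assoc]
      rw [this]
      exact mul_mem (mul_mem (inv_mem haU.1) hx) (inv_mem huU.1))
    subst hπ
    have hd : monoGL t 1 = diagGL t := by simp [monoGL]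
    rw [hd] at hm he
    refine ⟨t, a * (diagGL t * u * (diagGL t)⁻¹), mul_mem ha (mul_mem (mul_mem hm hu) (inv_mem hm)),
      hm, mul_mem haU (diag_conj_mem huU t), ?_⟩
    simp [he, mul_assoc]
  have hN2 : ∀ x ∈ Subgroup.normalizer (U : Set G), (∃ k : ℕ, x ^ 2 ^ k = 1) → x ∈ U := by
    rintro x hx ⟨k, hk⟩
    have hx' := hNB x hx
    refine ⟨hx', fun i => ?_⟩
    have hp : ∀ m : ℕ, (((x : GL (Fin n) F) ^ m : GL (Fin n) F) : Matrix (Fin n) (Fin n) F) i i =
        (((x : GL (Fin n) F)) : Matrix (Fin n) (Fin n) F) i i ^ m := by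
      intro m
      induction m with
      | zero => simp
      | succ m ih => rw [pow_succ, upper_mul_diag (pow_mem hx' m) hx', ih, pow_succ]
    have h1 := hp (2 ^ k)
    rw [← SubmonoidClass.coe_pow, hk] at h1
    have h2 : ((x : GL (Fin n) F) : Matrix (Fin n) (Fin n) F) i i ^ 2 ^ k - 1 ^ 2 ^ k = 0 := by
      rw [← h1]; simp
    rw [← sub_pow_char_pow] at h2
    exact sub_eq_zero.mp (eq_zero_of_pow_eq_zero h2)
  obtain ⟨S, hS⟩ := exists_sylow_eq_of_pElements hUp hN2
  refine ⟨S, fun H hSH => ?_⟩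
  rw [hS] at hSH ⊢
  intro x hx
  obtain ⟨s, u, hu, hs, huU, hxe⟩ := hsplit x (hNB x hx)
  have hx' : x = ⟨u, hu⟩ * ⟨diagGL s, hs⟩ := Subtype.ext hxe
  rw [hx']
  refine mul_mem (Subgroup.le_normalizer (hSH (show (⟨u, hu⟩ : G) ∈ U from huU))) ?_
  -- torus elements normalise `H`
  set H0 : Subgroup G := Subgroup.closure {z | ∃ h ∈ H, ∃ v ∈ U, h * v * h⁻¹ = z}
  have hH0H : H0 ≤ H := by
    rw [Subgroup.closure_le]
    rintro _ ⟨h, hh, v, hv, rfl⟩
    exact mul_mem (mul_mem hh (hSH hv)) (inv_mem hh)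
  have hUH0 : U ≤ H0 := fun v hv => Subgroup.subset_closure ⟨1, one_mem H, v, hv, by simp⟩
  have htU : ∀ (r : Fin n → Fˣ) (hr : diagGL r ∈ G), ∀ v ∈ U,
      (⟨diagGL r, hr⟩ : G) * v * (⟨diagGL r, hr⟩ : G)⁻¹ ∈ U := fun r hr v hv => diag_conj_mem hv r
  have htH0 : ∀ (r : Fin n → Fˣ) (hr : diagGL r ∈ G), ∀ z ∈ H0,
      (⟨diagGL r, hr⟩ : G) * z * (⟨diagGL r, hr⟩ : G)⁻¹ ∈ H0 := by
    intro r hr z hz
    induction hz using Subgroup.closure_induction with
    | one => simp
    | mul a b _ _ ha hb => simpa [mul_assoc] using mul_mem ha hb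
    | inv a _ ha => simpa [mul_assoc] using inv_mem ha
    | mem z hz =>
      obtain ⟨h, hh, v, hv, rfl⟩ := hz
      obtain ⟨t, π, a, b, ha, haU, hb, hbU, hm, he⟩ := hG.decomp h h.2
      set A : G := ⟨a, ha⟩
      set B : G := ⟨b, hb⟩
      set M : G := ⟨monoGL t π, hm⟩
      set T : G := ⟨diagGL r, hr⟩
      have hh' : h = A * M * B := Subtype.ext he
      have hMH : M ∈ H := by
        have : M = A⁻¹ * h * B⁻¹ := by rw [hh']; group
        rw [this]
        exact mul_mem (mul_mem (inv_mem (hSH haU)) hh) (inv_mem (hSH hbU))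
      -- `M⁻¹ * T * M` is again diagonal
      have hT' : ∃ (r' : Fin n → Fˣ) (hr' : diagGL r' ∈ G), T * M = M * ⟨diagGL r', hr'⟩ := by
        have h1 : monoGL t π * diagGL (fun i => r (π i)) = diagGL r * monoGL t π := by
          rw [monoGL_diag, diag_monoGL, mul_comm]
          simp
        refine ⟨fun i => r (π i), ?_, Subtype.ext h1.symm⟩
        have : diagGL (fun i => r (π i)) = (monoGL t π)⁻¹ * (diagGL r * monoGL t π) :=
          eq_inv_mul_of_mul_eq h1
        rw [this]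
        exact mul_mem (inv_mem hm) (mul_mem hr hm)
      obtain ⟨r', hr', hTM⟩ := hT'
      set T' : G := ⟨diagGL r', hr'⟩
      have hA : T * A * T⁻¹ ∈ H0 := hUH0 (htU r hr A haU)
      have hmid : M * (T' * (B * v * B⁻¹) * T'⁻¹) * M⁻¹ ∈ H0 :=
        Subgroup.subset_closure ⟨M, hMH, _,
          htU r' hr' _ (mul_mem (mul_mem hbU hv) (inv_mem hbU)), rfl⟩
      have key : T * (h * v * h⁻¹) * T⁻¹ =
          (T * A * T⁻¹) * (M * (T' * (B * v * B⁻¹) * T'⁻¹) * M⁻¹) * (T * A * T⁻¹)⁻¹ := by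
        have hTM' : T = M * T' * M⁻¹ := eq_mul_inv_of_mul_eq hTM
        rw [hh']
        conv_rhs => rw [hTM']
        conv_lhs => rw [hTM']
        group
      rw [key]
      exact mul_mem (mul_mem hA hmid) (inv_mem hA)
  have hmain : ∀ (r : Fin n → Fˣ) (hr : diagGL r ∈ G), ∀ h ∈ H,
      (⟨diagGL r, hr⟩ : G) * h * (⟨diagGL r, hr⟩ : G)⁻¹ ∈ H := by
    intro r hr h hh
    have h1 : (S : Subgroup G) ≤ H0 := hS ▸ hUH0
    have h2 : ((h • S : Sylow 2 G) : Subgroup G) ≤ H0 := by
      rw [Sylow.coe_subgroup_smul, Subgroup.pointwise_smul_def, hS]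
      rintro _ ⟨v, hv, rfl⟩
      exact Subgroup.subset_closure ⟨h, hh, v, hv, rfl⟩
    obtain ⟨⟨k, hk⟩, hk'⟩ := MulAction.exists_smul_eq H0 (S.subtype h1) ((h • S).subtype h2)
    rw [Sylow.smul_subtype h1 ⟨k, hk⟩] at hk'
    have hk2 : h • S = k • S := (Sylow.subtype_injective hk').symm
    have hn : k⁻¹ * h ∈ Subgroup.normalizer (U : Set G) := by
      rw [← hS]
      exact Sylow.smul_eq_iff_mem_normalizer.mp (by rw [mul_smul, hk2, inv_smul_smul])
    obtain ⟨c, w, hw, hc, hwU, hce⟩ := hsplit (k⁻¹ * h) (hNB _ hn)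
    set W : G := ⟨w, hw⟩
    set C : G := ⟨diagGL c, hc⟩
    set T : G := ⟨diagGL r, hr⟩
    have hh' : k⁻¹ * h = W * C := Subtype.ext hce
    have hCH : C ∈ H := by
      have : C = W⁻¹ * (k⁻¹ * h) := by rw [hh']; group
      rw [this]
      exact mul_mem (inv_mem (hSH hwU)) (mul_mem (inv_mem (hH0H hk)) hh)
    have hcomm : T * C * T⁻¹ = C := by
      rw [mul_inv_eq_iff_eq_mul]
      exact Subtype.ext (show diagGL r * diagGL c = diagGL c * diagGL r by
        rw [← map_mul, ← map_mul, mul_comm])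
    have key : T * h * T⁻¹ = (T * k * T⁻¹) * (T * W * T⁻¹) * (T * C * T⁻¹) := by
      rw [show h = k * (W * C) by rw [← hh']; group]
      group
    rw [key, hcomm]
    exact mul_mem (mul_mem (hH0H (htH0 r hr k hk)) (hSH (htU r hr W hwU))) hCH
  refine Subgroup.mem_normalizer_iff.mpr fun z => ⟨fun hz => hmain s hs z hz, fun hz => ?_⟩
  have hs' : diagGL s⁻¹ ∈ G := by rw [map_inv]; exact inv_mem hs
  have := hmain s⁻¹ hs' _ hz
  have e : (⟨diagGL s⁻¹, hs'⟩ : G) = (⟨diagGL s, hs⟩ : G)⁻¹ := Subtype.ext (map_inv diagGL s)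
  rw [e] at this
  simpa [mul_assoc] using this

end CfsgLib.Pronormal
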