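import Cfsg.Agent.Pronormal.EvenLinear
import Cfsg.Agent.Unitary.ConjugacyGL

/-!
The unitary group of even degree in characteristic 2: fixed points of a graph-field automorphism
of the general linear group inherit the Bruhat decomposition.
-/

set_option autoImplicit false
set_option linter.unusedSectionVars false

namespace CfsgLib.Pronormal

open Matrix CfsgLib.Unitary CfsgLib.Forms
open scoped MatrixGroups

variable {n : ℕ} {F : Type*} [Field F]

/-- The reversal permutation matrix. -/
noncomputable def revGL (n : ℕ) (F : Type*) [Field F] : GL (Fin n) F := CfsgLib.GLn.permGL F Fin.revPerm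

theorem revGL_inv : (revGL n F)⁻¹ = revGL n F := by
  rw [revGL, ← map_inv]; rfl

theorem revGL_apply (i j : Fin n) :
    ((revGL n F : GL (Fin n) F) : Matrix (Fin n) (Fin n) F) i j = if Fin.rev j = i then 1 else 0 := rfl

theorem revGL_eq_mono : revGL n F = monoGL 1 Fin.revPerm := by simp [monoGL, revGL]

theorem rev_conj_apply (g : GL (Fin n) F) (i j : Fin n) :
    ((revGL n F * g * (revGL n F)⁻¹ : GL (Fin n) F) : Matrix (Fin n) (Fin n) F) i j =
      (g : Matrix (Fin n) (Fin n) F) (Fin.rev i) (Fin.rev j) := by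
  have := monoGL_conj_apply (1 : Fin n → Fˣ) Fin.revPerm g (Fin.rev i) (Fin.rev j)
  rw [← revGL_eq_mono] at this
  simpa using this

/-- Lower triangular matrices. -/
noncomputable def lowerTri (n : ℕ) (F : Type*) [Field F] : Subgroup (GL (Fin n) F) :=
  (Cfsg.upperTriangularGL n F).comap (MulAut.conj (revGL n F)).toMonoidHom

theorem mem_lowerTri {g : GL (Fin n) F} :
    g ∈ lowerTri n F ↔ ∀ i j, i < j → (g : Matrix (Fin n) (Fin n) F) i j = 0 := by
  constructor
  · intro h i j hij
    have := upper_apply (show revGL n F * g * (revGL n F)⁻¹ ∈ _ from h)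
      (show Fin.rev j < Fin.rev i from Fin.rev_lt_rev.mpr hij)
    rwa [rev_conj_apply, Fin.rev_rev, Fin.rev_rev] at this
  · intro h i j hij
    have hij' : j < i := hij
    show ((revGL n F * g * (revGL n F)⁻¹ : GL (Fin n) F) : Matrix (Fin n) (Fin n) F) i j = 0
    rw [rev_conj_apply]
    exact h _ _ (Fin.rev_lt_rev.mpr hij')

theorem eq_one_of_unitri_lower {g : GL (Fin n) F} (h : g ∈ unitri n F) (h' : g ∈ lowerTri n F) : g = 1 := by
  refine Units.ext (Matrix.ext fun i j => ?_)
  rcases lt_trichotomy i j with hij | rfl | hij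
  · simp [mem_lowerTri.mp h' i j hij, hij.ne]
  · simp [h.2]
  · simp [upper_apply h.1 hij, hij.ne']

theorem mono_mul_unique {t t' : Fin n → Fˣ} {π π' : Equiv.Perm (Fin n)} {x y : GL (Fin n) F}
    (hx : x ∈ unitri n F) (hy : y ∈ unitri n F) (h : x * monoGL t' π' = monoGL t π * y) :
    monoGL t' π' = monoGL t π := by
  have key : ∀ j, (x : Matrix (Fin n) (Fin n) F) (π j) (π' j) * (t' (π' j) : F) = (t (π j) : F) := by
    intro j
    have h1 := congrArg (fun g : GL (Fin n) F => (g : Matrix (Fin n) (Fin n) F) (π j) j) h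
    simp only [Units.val_mul, Matrix.mul_apply] at h1
    rw [Finset.sum_eq_single (π' j), Finset.sum_eq_single j] at h1
    · simpa [monoGL_apply, hy.2] using h1
    · intro k _ hk
      rw [monoGL_apply, if_neg fun e => hk (π.injective e), zero_mul]
    · simp
    · intro k _ hk
      rw [monoGL_apply, if_neg (Ne.symm hk), mul_zero]
    · simp
  have hle : ∀ j, π j ≤ π' j := fun j => by
    by_contra hlt
    have := key j
    rw [upper_apply hx.1 (not_le.mp hlt), zero_mul] at this
    exact (t _).ne_zero this.symm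
  have hsum : ∑ j, ((π' j : Fin n) : ℕ) = ∑ j, ((π j : Fin n) : ℕ) := by
    rw [Equiv.sum_comp π' fun i => (i : ℕ), Equiv.sum_comp π fun i => (i : ℕ)]
  have heq : π = π' := Equiv.ext fun j => Fin.ext
    ((Finset.sum_eq_sum_iff_of_le fun i _ => Fin.le_def.mp (hle i)).mp hsum.symm j (Finset.mem_univ j))
  subst heq
  have ht : t' = t := funext fun i => Units.ext (by simpa [hx.2] using key (π.symm i))
  rw [ht]

theorem exists_factor [Finite F] (π : Equiv.Perm (Fin n)) (t : Fin n → Fˣ) {b : GL (Fin n) F}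
    (hb : b ∈ unitri n F) :
    ∃ a c : GL (Fin n) F, a ∈ unitri n F ∧ (monoGL t π)⁻¹ * a * monoGL t π ∈ lowerTri n F ∧
      c ∈ unitri n F ∧ (monoGL t π)⁻¹ * c * monoGL t π ∈ unitri n F ∧ b = a * c := by
  classical
  set m := monoGL t π
  set A := unitri n F ⊓ (lowerTri n F).comap (MulAut.conj m⁻¹).toMonoidHom
  set C := unitri n F ⊓ (unitri n F).comap (MulAut.conj m⁻¹).toMonoidHom
  have hA : ∀ a, a ∈ A ↔ a ∈ unitri n F ∧ m⁻¹ * a * m ∈ lowerTri n F := fun a => by
    simp [A, Subgroup.mem_inf]
  have hC : ∀ a, a ∈ C ↔ a ∈ unitri n F ∧ m⁻¹ * a * m ∈ unitri n F := fun a => by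
    simp [C, Subgroup.mem_inf]
  have hconj : ∀ (a : GL (Fin n) F) (i j : Fin n),
      (a : Matrix (Fin n) (Fin n) F) (π i) (π j) =
        (t (π i) : F) * ((m⁻¹ * a * m : GL (Fin n) F) : Matrix (Fin n) (Fin n) F) i j *
          ((t (π j))⁻¹ : Fˣ) := by
    intro a i j
    rw [← monoGL_conj_apply t π (m⁻¹ * a * m) i j]
    simp [m, mul_assoc]
  have hzero : ∀ (a : GL (Fin n) F) (i j : Fin n),
      (((m⁻¹ * a * m : GL (Fin n) F) : Matrix (Fin n) (Fin n) F) i j = 0 ↔
        (a : Matrix (Fin n) (Fin n) F) (π i) (π j) = 0) := by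
    intro a i j
    rw [hconj]; simp
  -- splitting the entries of a unitriangular matrix
  let keep : (Fin n → Fin n → Prop) → GL (Fin n) F → Matrix (Fin n) (Fin n) F := fun r g =>
    Matrix.of fun i j => if i = j then 1 else if r (π.symm i) (π.symm j) then (g : Matrix _ _ F) i j else 0
  have hU : ∀ r (g : unitri n F), (keep r g).IsUpperTriangular ∧ (keep r g).det = 1 := by
    intro r g
    have ht : (keep r g).IsUpperTriangular := fun i j hij => by
      have hij' : j < i := hij
      simp [keep, hij'.ne', upper_apply g.2.1 hij']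
    refine ⟨ht, ?_⟩
    rw [Matrix.det_of_isUpperTriangular ht]
    simp [keep]
  let K : (Fin n → Fin n → Prop) → unitri n F → GL (Fin n) F := fun r g =>
    GeneralLinearGroup.mkOfDetNeZero (keep r g) (by rw [(hU r g).2]; exact one_ne_zero)
  have hK : ∀ r g, K r g ∈ unitri n F := fun r g => ⟨(hU r g).1, fun i => by simp [K, keep]⟩
  have hK_apply : ∀ r g i j, (K r g : Matrix (Fin n) (Fin n) F) i j = keep r g i j := fun r g i j => rfl
  let rA : Fin n → Fin n → Prop := fun i j => j < i
  let rC : Fin n → Fin n → Prop := fun i j => i < j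
  let split : unitri n F → A × C := fun g =>
    (⟨K rA g, (hA _).mpr ⟨hK rA g, mem_lowerTri.mpr fun i j hij => by
        refine (hzero _ i j).mpr ((hK_apply rA g (π i) (π j)).trans ?_)
        simp [keep, rA, hij.ne, hij.not_gt]⟩⟩,
      ⟨K rC g, (hC _).mpr ⟨hK rC g, fun i j hij => by
          have hij' : j < i := hij
          refine (hzero _ i j).mpr ((hK_apply rC g (π i) (π j)).trans ?_)
          simp [keep, rC, hij'.ne', hij'.not_gt],
        fun i => by
          have h := hconj (K rC g) i i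
          rw [(hK _ g).2, mul_comm, ← mul_assoc, ← Units.val_mul, inv_mul_cancel, Units.val_one,
            one_mul] at h
          exact h.symm⟩⟩)
  have hsplit : Function.Injective split := by
    intro g g' he
    refine Subtype.ext (Units.ext (Matrix.ext fun i j => ?_))
    rcases eq_or_ne i j with rfl | hij
    · rw [g.2.2, g'.2.2]
    rcases lt_or_gt_of_ne (fun e => hij (π.symm.injective e)) with hlt | hlt
    · have := congrArg (fun p : A × C => ((p.2 : GL (Fin n) F) : Matrix (Fin n) (Fin n) F) i j) he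
      simpa [split, hK_apply, keep, rA, rC, hij, hlt] using this
    · have := congrArg (fun p : A × C => ((p.1 : GL (Fin n) F) : Matrix (Fin n) (Fin n) F) i j) he
      simpa [split, hK_apply, keep, rA, rC, hij, hlt] using this
  let prod : A × C → unitri n F := fun p =>
    ⟨(p.1 : GL (Fin n) F) * p.2, mul_mem ((hA _).mp p.1.2).1 ((hC _).mp p.2.2).1⟩
  have hprod : Function.Injective prod := by
    rintro ⟨a, c⟩ ⟨a', c'⟩ he
    have he' : (a : GL (Fin n) F) * c = a' * c' := congrArg Subtype.val he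
    have hz : (a' : GL (Fin n) F)⁻¹ * a = (c' : GL (Fin n) F) * (c : GL (Fin n) F)⁻¹ := by
      rw [eq_mul_inv_iff_mul_eq, mul_assoc, he', inv_mul_cancel_left]
    have h1 : m⁻¹ * ((a' : GL (Fin n) F)⁻¹ * a) * m ∈ lowerTri n F :=
      ((hA _).mp (mul_mem (inv_mem a'.2) a.2)).2
    have h2 : m⁻¹ * ((a' : GL (Fin n) F)⁻¹ * a) * m ∈ unitri n F := by
      rw [hz]; exact ((hC _).mp (mul_mem c'.2 (inv_mem c.2))).2
    have h3 := eq_one_of_unitri_lower h2 h1
    rw [mul_assoc, inv_mul_eq_one, eq_comm, mul_eq_right, inv_mul_eq_one] at h3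
    have ha : a' = a := Subtype.ext h3
    subst ha
    exact Prod.ext rfl (Subtype.ext (mul_left_cancel he'))
  have hbij : Function.Bijective prod := by
    rw [Nat.bijective_iff_injective_and_card]
    exact ⟨hprod, le_antisymm (Nat.card_le_card_of_injective _ hprod)
      (Nat.card_le_card_of_injective _ hsplit)⟩
  obtain ⟨⟨a, c⟩, he⟩ := hbij.2 ⟨b, hb⟩
  exact ⟨a, c, ((hA _).mp a.2).1, ((hA _).mp a.2).2, ((hC _).mp c.2).1, ((hC _).mp c.2).2,
    (congrArg Subtype.val he).symm⟩

/-- The transpose of the inverse. -/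
noncomputable def transInv : GL (Fin n) F →* GL (Fin n) F where
  toFun g := ⟨((g⁻¹ : GL (Fin n) F) : Matrix (Fin n) (Fin n) F)ᵀ, (g : Matrix (Fin n) (Fin n) F)ᵀ,
      by rw [← transpose_mul, ← Units.val_mul, mul_inv_cancel, Units.val_one, transpose_one],
      by rw [← transpose_mul, ← Units.val_mul, inv_mul_cancel, Units.val_one, transpose_one]⟩
  map_one' := Units.ext (by simp)
  map_mul' g h := Units.ext (by simp [_root_.mul_inv_rev, transpose_mul])

/-- The twisted transpose inverse. -/
noncomputable def twist (φ : F →+* F) : GL (Fin n) F →* GL (Fin n) F :=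
  (MulAut.conj (revGL n F)).toMonoidHom.comp (transInv.comp (GeneralLinearGroup.map φ))

theorem twist_apply (φ : F →+* F) (g : GL (Fin n) F) (i j : Fin n) :
    ((twist φ g : GL (Fin n) F) : Matrix (Fin n) (Fin n) F) i j =
      φ (((g⁻¹ : GL (Fin n) F) : Matrix (Fin n) (Fin n) F) (Fin.rev j) (Fin.rev i)) := by
  refine (rev_conj_apply _ i j).trans ?_
  change ((GeneralLinearGroup.map φ g)⁻¹ : GL (Fin n) F).val (Fin.rev j) (Fin.rev i) = _
  rw [← map_inv]
  rfl

theorem twist_unitri (φ : F →+* F) {g : GL (Fin n) F} (hg : g ∈ unitri n F) : twist φ g ∈ unitri n F := by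
  refine ⟨fun i j hij => ?_, fun i => ?_⟩
  · have hij' : j < i := hij
    rw [twist_apply, upper_apply (inv_mem hg).1 (Fin.rev_lt_rev.mpr hij'), map_zero]
  · rw [twist_apply, (inv_mem hg).2, map_one]

theorem twist_lower (φ : F →+* F) {g : GL (Fin n) F} (hg : g ∈ lowerTri n F) : twist φ g ∈ lowerTri n F := by
  refine mem_lowerTri.mpr fun i j hij => ?_
  rw [twist_apply, mem_lowerTri.mp (inv_mem hg) _ _ (Fin.rev_lt_rev.mpr hij), map_zero]

theorem monoGL_inv (t : Fin n → Fˣ) (π : Equiv.Perm (Fin n)) :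
    (monoGL t π)⁻¹ = monoGL (fun i => (t (π i))⁻¹) π⁻¹ := by
  rw [monoGL, _root_.mul_inv_rev, ← map_inv, ← map_inv, permGL_conj_diag]
  rfl

theorem twist_mono (φ : F →+* F) (t : Fin n → Fˣ) (π : Equiv.Perm (Fin n)) :
    ∃ (t' : Fin n → Fˣ) (π' : Equiv.Perm (Fin n)), twist φ (monoGL t π) = monoGL t' π' := by
  refine ⟨fun i => Units.map φ.toMonoidHom (t (Fin.rev i))⁻¹, Fin.revPerm * π * Fin.revPerm,
    Units.ext (Matrix.ext fun i j => ?_)⟩
  rw [twist_apply, monoGL_inv, monoGL_apply, monoGL_apply]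
  by_cases h : π (Fin.rev j) = Fin.rev i
  · rw [if_pos (by rw [← h]; simp), if_pos (by simp [h])]
    simp [h]
  · rw [if_neg fun e => h ?_, if_neg fun e => h ?_, map_zero]
    · simpa using congrArg Fin.rev e
    · simpa using congrArg π e.symm

/-- The fixed points of the twist in the special linear group. -/
noncomputable def twistSL (n : ℕ) (φ : F →+* F) : Subgroup (GL (Fin n) F) :=
  (Matrix.SpecialLinearGroup.toGL (n := Fin n) (R := F)).range ⊓
    MonoidHom.eqLocus (twist φ) (MonoidHom.id _)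

theorem mem_twistSL {φ : F →+* F} {g : GL (Fin n) F} :
    g ∈ twistSL n φ ↔ (g : Matrix (Fin n) (Fin n) F).det = 1 ∧ twist φ g = g := by
  rw [twistSL, Subgroup.mem_inf, mem_range_toGL]
  rfl

/-- Elementary transvections. -/
noncomputable def tvGL (i j : Fin n) (h : i ≠ j) : GL (Fin n) F :=
  GeneralLinearGroup.mkOfDetNeZero (transvection i j (1 : F))
    (by rw [det_transvection_of_ne i j h]; exact one_ne_zero)

theorem tvGL_apply (i j : Fin n) (h : i ≠ j) (a b : Fin n) :
    ((tvGL i j h : GL (Fin n) F) : Matrix (Fin n) (Fin n) F) a b =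
      (if a = b then 1 else 0) + if i = a ∧ j = b then 1 else 0 := by
  change transvection i j (1 : F) a b = _
  simp [transvection, Matrix.one_apply, Matrix.single_apply]

theorem tvGL_mem (i j : Fin n) (h : i < j) : tvGL i j h.ne ∈ unitri n F := by
  refine ⟨fun a b hab => ?_, fun a => ?_⟩
  · have hab' : b < a := hab
    rw [tvGL_apply, if_neg hab'.ne', if_neg, add_zero]
    rintro ⟨rfl, rfl⟩
    exact lt_asymm h hab'
  · rw [tvGL_apply, if_pos rfl, if_neg fun e => h.ne (e.1.trans e.2.symm), add_zero]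

theorem twist_tvGL [CharP F 2] (φ : F →+* F) (i j : Fin n) (h : i ≠ j) :
    twist φ (tvGL i j h : GL (Fin n) F) =
      tvGL (Fin.rev j) (Fin.rev i) (fun e => h (Fin.rev_injective e).symm) := by
  have hinv : (tvGL i j h : GL (Fin n) F)⁻¹ = tvGL i j h := by
    refine inv_eq_of_mul_eq_one_right (Units.ext ?_)
    change transvection i j (1 : F) * transvection i j (1 : F) = 1
    rw [transvection_mul_transvection_same i j h, CharTwo.add_self_eq_zero, transvection_zero]
  refine Units.ext (Matrix.ext fun a b => ?_)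
  rw [twist_apply, hinv, tvGL_apply, tvGL_apply, map_add, apply_ite φ, apply_ite φ, map_one, map_zero]
  congr 1
  · exact if_congr ⟨fun e => (Fin.rev_injective e).symm, fun e => e ▸ rfl⟩ rfl rfl
  · refine if_congr ⟨?_, ?_⟩ rfl rfl
    · rintro ⟨rfl, rfl⟩; simp
    · rintro ⟨rfl, rfl⟩; simp

theorem bruhatIn_twistSL [Finite F] [CharP F 2] (hn : Even n) (φ : F →+* F) :
    BruhatIn (twistSL n φ) where
  decomp g hg := by
    obtain ⟨t, π, a₀, ha₀, u₀, hu₀, rfl⟩ := exists_unitri_bruhat g
    obtain ⟨a, c, ha, haL, hc, hcU, rfl⟩ := exists_factor π t ha₀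
    obtain ⟨t', π', hm'⟩ := twist_mono φ t π
    set m := monoGL t π
    set u := m⁻¹ * c * m * u₀
    have hu : u ∈ unitri n F := mul_mem hcU hu₀
    have hg' : a * c * m * u₀ = a * m * u := by simp [u, mul_assoc]
    rw [hg'] at hg ⊢
    obtain ⟨hdet, hfix⟩ := mem_twistSL.mp hg
    rw [map_mul, map_mul, hm'] at hfix
    have hx : a⁻¹ * twist φ a * monoGL t' π' = monoGL t π * (u * (twist φ u)⁻¹) := by
      rw [← mul_assoc (monoGL t π), eq_mul_inv_iff_mul_eq, mul_assoc a⁻¹, mul_assoc, inv_mul_eq_iff_eq_mul,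
        hfix, mul_assoc]
    have hmm : monoGL t' π' = m :=
      mono_mul_unique (mul_mem (inv_mem ha) (twist_unitri φ ha))
        (mul_mem hu (inv_mem (twist_unitri φ hu))) hx
    rw [hmm] at hx hm'
    have hL : m⁻¹ * (a⁻¹ * twist φ a) * m ∈ lowerTri n F := by
      have h1 := twist_lower φ haL
      rw [map_mul, map_mul, map_inv, hm'] at h1
      have : m⁻¹ * (a⁻¹ * twist φ a) * m = (m⁻¹ * a * m)⁻¹ * (m⁻¹ * twist φ a * m) := by group
      rw [this]
      exact mul_mem (inv_mem haL) h1
    have hone : m⁻¹ * (a⁻¹ * twist φ a) * m = 1 := by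
      refine eq_one_of_unitri_lower ?_ hL
      rw [mul_assoc, hx, inv_mul_cancel_left]
      exact mul_mem hu (inv_mem (twist_unitri φ hu))
    have haf : twist φ a = a := by
      rw [mul_assoc, inv_mul_eq_one, eq_comm, mul_eq_right, inv_mul_eq_one] at hone
      exact hone.symm
    have huf : twist φ u = u := by
      rw [haf, inv_mul_cancel, one_mul, left_eq_mul, mul_inv_eq_one] at hx
      exact hx.symm
    have ha' : a ∈ twistSL n φ := mem_twistSL.mpr ⟨det_unitri ha, haf⟩
    have hu' : u ∈ twistSL n φ := mem_twistSL.mpr ⟨det_unitri hu, huf⟩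
    refine ⟨t, π, a, u, ha', ha, hu', hu, ?_, rfl⟩
    have : m = a⁻¹ * (a * m * u) * u⁻¹ := by group
    show m ∈ twistSL n φ
    rw [this]
    exact mul_mem (mul_mem (inv_mem ha') hg) (inv_mem hu')
  root i j hij := by
    have hlt : i < j := Fin.lt_def.mpr (by omega)
    have hev : ∀ k : Fin n, Fin.rev k ≠ k := fun k e => by
      have h := congrArg Fin.val e
      simp only [Fin.val_rev] at h
      obtain ⟨r, hr⟩ := hn
      have := k.isLt
      omega
    rcases eq_or_ne (Fin.rev j) i with hji | hji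
    · refine ⟨tvGL i j hlt.ne, mem_twistSL.mpr ⟨det_unitri (tvGL_mem i j hlt), ?_⟩, tvGL_mem i j hlt, ?_⟩
      · rw [twist_tvGL]
        have hij' : Fin.rev i = j := by rw [← hji, Fin.rev_rev]
        exact Units.ext (Matrix.ext fun a b => by simp [tvGL_apply, hji, hij'])
      · simp [tvGL_apply, hlt.ne]
    · have hlt' : Fin.rev j < Fin.rev i := Fin.rev_lt_rev.mpr hlt
      have hd1 : j ≠ Fin.rev j := (hev j).symm
      have hd2 : Fin.rev i ≠ i := hev i
      have hcomm : (tvGL i j hlt.ne : GL (Fin n) F) * tvGL _ _ hlt'.ne =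
          tvGL _ _ hlt'.ne * tvGL i j hlt.ne := by
        refine Units.ext ?_
        change transvection i j (1 : F) * transvection _ _ (1 : F) =
          transvection _ _ (1 : F) * transvection i j (1 : F)
        simp [transvection, add_mul, mul_add, Matrix.single_mul_single_of_ne _ _ _ _ hd1,
          Matrix.single_mul_single_of_ne _ _ _ _ hd2, add_comm, add_left_comm]
      refine ⟨tvGL i j hlt.ne * tvGL _ _ hlt'.ne,
        mem_twistSL.mpr ⟨det_unitri (mul_mem (tvGL_mem i j hlt) (tvGL_mem _ _ hlt')), ?_⟩,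
        mul_mem (tvGL_mem i j hlt) (tvGL_mem _ _ hlt'), ?_⟩
      · rw [map_mul, twist_tvGL, twist_tvGL, hcomm]
        refine congrArg _ (Units.ext (Matrix.ext fun a b => ?_))
        simp [tvGL_apply]
      · change (transvection i j (1 : F) * transvection (Fin.rev j) (Fin.rev i) (1 : F) :
          Matrix (Fin n) (Fin n) F) i j ≠ 0
        simp [transvection, add_mul, mul_add, Matrix.single_mul_single_of_ne _ _ _ _ hd1,
          Matrix.single_apply, hlt.ne, hji]

variable [Finite F] {q : ℕ}

theorem exists_hyperbolic_basis [CharP F 2] (hF : Nat.card F = q ^ 2) (hn : Even n) :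
    ∃ M : GL (Fin n) F, adj (frobQ hF) (M : Matrix (Fin n) (Fin n) F) * (M : Matrix (Fin n) (Fin n) F) =
      (revGL n F : Matrix (Fin n) (Fin n) F) := by
  classical
  obtain ⟨c, hc⟩ := exists_add_σ_eq_one (frobQ_ne_id hF) (frobQ_invol hF)
  set φ := frobQ hF
  let M : Matrix (Fin n) (Fin n) F := Matrix.of fun k i =>
    if i < Fin.rev i then (if k = i then 1 else 0) + (if k = Fin.rev i then 1 else 0)
    else (if k = Fin.rev i then 1 + c else 0) + (if k = i then c else 0)
  have h2 : (1 : F) + 1 = 0 := CharTwo.add_self_eq_zero 1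
  have hev : ∀ k : Fin n, Fin.rev k ≠ k := fun k e => by
    have h := congrArg Fin.val e
    simp only [Fin.val_rev] at h
    obtain ⟨r, hr⟩ := hn
    have := k.isLt
    omega
  have hgram : adj φ M * M = (revGL n F : Matrix (Fin n) (Fin n) F) := by
    ext a b
    rw [revGL_apply, Matrix.mul_apply]
    have hsupp : ∀ k, k ≠ a → k ≠ Fin.rev a → adj φ M a k * M k b = 0 := by
      intro k h1 h2
      simp [adj, M, h1, h2]
    rw [Finset.sum_eq_add a (Fin.rev a) (hev a).symm (fun k _ hk => hsupp k hk.1 hk.2) (by simp) (by simp)]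
    rcases eq_or_ne b a with rfl | hba
    · rw [if_neg (hev b)]
      by_cases hlt : b < Fin.rev b
      · simp [adj, M, hlt, (hev b).symm, hev b, h2]
      · simp [adj, M, hlt, (hev b).symm, hev b]
        linear_combination hc + (1 + φ c * c) * h2
    rcases eq_or_ne b (Fin.rev a) with rfl | hbr
    · rw [if_pos (Fin.rev_rev a)]
      by_cases hlt : a < Fin.rev a
      · simp [adj, M, hlt, hlt.not_gt, (hev a).symm, hev a]
        linear_combination c * h2
      · have hlt' : Fin.rev a < a := lt_of_le_of_ne (not_lt.mp hlt) (hev a)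
        simp [adj, M, hlt, hlt', (hev a).symm, hev a]
        linear_combination (φ c) * h2
    · have h3 : a ≠ Fin.rev b := fun e => hbr (by rw [e, Fin.rev_rev])
      rw [if_neg fun e => hbr (by rw [← e, Fin.rev_rev])]
      simp [adj, M, hba.symm, h3, hbr.symm, Fin.rev_injective.eq_iff]
  have hdet : M.det ≠ 0 := by
    intro h0
    have := congrArg Matrix.det hgram
    rw [det_mul, h0, mul_zero] at this
    exact ((revGL n F).isUnit.map Matrix.detMonoidHom).ne_zero this.symm
  exact ⟨GeneralLinearGroup.mkOfDetNeZero M hdet, hgram⟩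

theorem twist_eq_iff (φ : F →+* F) (g : GL (Fin n) F) :
    twist φ g = g ↔ adj φ (g : Matrix (Fin n) (Fin n) F) * (revGL n F : Matrix (Fin n) (Fin n) F) *
      (g : Matrix (Fin n) (Fin n) F) = (revGL n F : Matrix (Fin n) (Fin n) F) := by
  let B : GL (Fin n) F :=
    ⟨adj φ (g : Matrix (Fin n) (Fin n) F), adj φ ((g⁻¹ : GL (Fin n) F) : Matrix (Fin n) (Fin n) F),
      by rw [← adj_mul, ← Units.val_mul, inv_mul_cancel, Units.val_one, adj_one],
      by rw [← adj_mul, ← Units.val_mul, mul_inv_cancel, Units.val_one, adj_one]⟩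
  have hB : twist φ g = revGL n F * B⁻¹ * (revGL n F)⁻¹ := by
    change revGL n F * _ * (revGL n F)⁻¹ = _
    congr 2
  have : twist φ g = g ↔ B * revGL n F * g = revGL n F := by
    have hJ : revGL n F * revGL n F = 1 := by
      nth_rewrite 2 [← revGL_inv]
      exact mul_inv_cancel _
    rw [hB, revGL_inv]
    constructor
    · intro h
      nth_rewrite 1 [← h]
      simp only [mul_assoc]
      rw [← mul_assoc (revGL n F) (revGL n F), hJ, one_mul, mul_inv_cancel_left]
    · intro h
      have hg : g = (revGL n F)⁻¹ * (B⁻¹ * revGL n F) := by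
        calc g = (revGL n F)⁻¹ * (B⁻¹ * (B * revGL n F * g)) := by group
          _ = _ := by rw [h]
      rw [hg, revGL_inv, mul_assoc]
  rw [this, Units.ext_iff, Units.val_mul, Units.val_mul]

theorem psu_invariant_even [CharP F 2] (hF : Nat.card F = q ^ 2) (hn : Even n) :
    SylowOvergroupsInvariant 2 (Cfsg.PSU n F q) := by
  have : Fact (Nat.Prime 2) := ⟨Nat.prime_two⟩
  obtain ⟨M, hM⟩ := exists_hyperbolic_basis hF hn
  let f : Cfsg.SU n F q →* GL (Fin n) F :=
    (MulAut.conj M⁻¹).toMonoidHom.comp (Matrix.SpecialLinearGroup.toGL.comp (Cfsg.SU n F q).subtype)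
  have hf : Function.Injective f := fun a b h => Subtype.ext (Subtype.ext (by
    have := congrArg Units.val ((MulAut.conj M⁻¹).injective h); exact this))
  have hMinv : adj (frobQ hF) ((M⁻¹ : GL (Fin n) F) : Matrix (Fin n) (Fin n) F) *
      (revGL n F : Matrix (Fin n) (Fin n) F) * ((M⁻¹ : GL (Fin n) F) : Matrix (Fin n) (Fin n) F) = 1 := by
    rw [← hM, ← mul_assoc, ← adj_mul, ← Units.val_mul, mul_inv_cancel, Units.val_one, adj_one, one_mul,
      ← Units.val_mul, mul_inv_cancel, Units.val_one]
  have hrange : f.range = twistSL n (frobQ hF) := by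
    ext g
    rw [mem_twistSL, twist_eq_iff]
    constructor
    · rintro ⟨x, rfl⟩
      have hx : x.1.toGL ∈ Cfsg.GU n F q := x.2
      rw [mem_GU_iff_adj hF] at hx
      refine ⟨?_, ?_⟩
      · simp [f, M.det_ne_zero]
      · simp only [f, MonoidHom.coe_comp, MulEquiv.coe_toMonoidHom, Function.comp_apply, MulAut.conj_apply,
          inv_inv, Units.val_mul, adj_mul, Subgroup.coe_subtype]
        set X := ((x.1.toGL : GL (Fin n) F) : Matrix (Fin n) (Fin n) F)
        set Mi := ((M⁻¹ : GL (Fin n) F) : Matrix (Fin n) (Fin n) F)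
        calc _ = adj (frobQ hF) (M : Matrix (Fin n) (Fin n) F) * (adj (frobQ hF) X *
              (adj (frobQ hF) Mi * (revGL n F : Matrix (Fin n) (Fin n) F) * Mi) * X) * M := by
              simp only [mul_assoc]
          _ = _ := by rw [hMinv, mul_one, hx, mul_one, hM]
    · rintro ⟨hdet, hfix⟩
      set h : GL (Fin n) F := M * g * M⁻¹
      have hdet' : (h : Matrix (Fin n) (Fin n) F).det = 1 := by
        have : ((h : GL (Fin n) F) : Matrix (Fin n) (Fin n) F).det =
            (Matrix.GeneralLinearGroup.det h : F) := rfl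
        rw [this]
        simp [h, hdet]
      have hmem : h ∈ Cfsg.GU n F q := by
        rw [mem_GU_iff_adj hF]
        simp only [h, Units.val_mul, adj_mul]
        set G := ((g : GL (Fin n) F) : Matrix (Fin n) (Fin n) F)
        set Mi := ((M⁻¹ : GL (Fin n) F) : Matrix (Fin n) (Fin n) F)
        calc _ = adj (frobQ hF) Mi * (adj (frobQ hF) G *
              (adj (frobQ hF) (M : Matrix (Fin n) (Fin n) F) * M) * G) * Mi := by simp only [mul_assoc]
          _ = _ := by rw [hM, hfix, hMinv]
      let s : Matrix.SpecialLinearGroup (Fin n) F := ⟨h, hdet'⟩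
      have hs : s.toGL = h := Units.ext rfl
      refine ⟨⟨s, show s.toGL ∈ Cfsg.GU n F q by rw [hs]; exact hmem⟩, ?_⟩
      simp only [f, MonoidHom.coe_comp, MulEquiv.coe_toMonoidHom, Function.comp_apply, MulAut.conj_apply,
        inv_inv, Subgroup.coe_subtype, hs, h]
      group
  have hinv : SylowOvergroupsInvariant 2 f.range := hrange ▸ (bruhatIn_twistSL hn _).invariant
  exact invariant_of_surjective ((QuotientGroup.mk' _).comp (MonoidHom.ofInjective hf).symm.toMonoidHom)
    ((QuotientGroup.mk'_surjective _).comp (MonoidHom.ofInjective hf).symm.surjective) hinv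

end CfsgLib.Pronormal
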