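import Cfsg.Agent.Pronormal.Criterion

/-!
Pronormality of overgroups of Sylow subgroups in a group extension.
-/

set_option autoImplicit false

namespace CfsgLib.Pronormal

variable {G : Type*} [Group G] {p : ℕ}

/-- Every subgroup containing a Sylow `p`-subgroup is pronormal. -/
def OvergroupsPronormal (p : ℕ) (G : Type*) [Group G] : Prop :=
  ∀ K : Subgroup G, (∃ P : Sylow p G, (P : Subgroup G) ≤ K) → Cfsg.IsPronormal K

theorem map_conj_mul (K : Subgroup G) (a b : G) :
    K.map (MulAut.conj (a * b)).toMonoidHom =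
      (K.map (MulAut.conj b).toMonoidHom).map (MulAut.conj a).toMonoidHom := by
  rw [Subgroup.map_map]
  congr 1
  ext z
  simp

theorem map_conj_of_mem_normalizer {K : Subgroup G} {a : G} (ha : a ∈ Subgroup.normalizer (K : Set G)) :
    K.map (MulAut.conj a).toMonoidHom = K := by
  ext y
  constructor
  · rintro ⟨z, hz, rfl⟩
    exact (Subgroup.mem_normalizer_iff.mp ha z).mp hz
  · intro hy
    refine ⟨a⁻¹ * y * a, (Subgroup.mem_normalizer_iff.mp ha _).mpr ?_, ?_⟩
    · simpa [mul_assoc] using hy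
    · simp [mul_assoc]

theorem mem_normalizer_of_map_conj {K : Subgroup G} {a : G} (h : K.map (MulAut.conj a).toMonoidHom = K) :
    a ∈ Subgroup.normalizer (K : Set G) := by
  refine Subgroup.mem_normalizer_iff.mpr fun y => ⟨fun hy => h ▸ ⟨y, hy, rfl⟩, fun hy => ?_⟩
  obtain ⟨z, hz, he⟩ := (h.symm ▸ hy : a * y * a⁻¹ ∈ K.map (MulAut.conj a).toMonoidHom)
  have he' : a * z * a⁻¹ = a * y * a⁻¹ := he
  exact (mul_left_cancel (mul_right_cancel he')) ▸ hz

variable [Finite G] [Fact p.Prime] (A : Subgroup G) [hAn : A.Normal]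

theorem exists_sylow_inf_eq {T : Subgroup G} (hT : ∃ P : Sylow p A, (P : Subgroup A).map A.subtype = T) :
    ∃ P : Sylow p G, T ≤ (P : Subgroup G) ∧ (P : Subgroup G) ⊓ A = T := by
  obtain ⟨Q, rfl⟩ := hT
  obtain ⟨P, hP⟩ := (Q.2.map A.subtype).exists_le_sylow
  refine ⟨P, hP, le_antisymm ?_ (le_inf hP (Subgroup.map_subtype_le _))⟩
  have hle : (Q : Subgroup A) ≤ ((P : Subgroup G) ⊓ A).subgroupOf A := fun x hx =>
    ⟨hP (Subgroup.mem_map_of_mem _ hx), x.2⟩
  have hp : IsPGroup p (((P : Subgroup G) ⊓ A).subgroupOf A) :=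
    IsPGroup.comap_subtype (P.2.to_le inf_le_left)
  intro x hx
  exact ⟨⟨x, hx.2⟩, (Q.3 hp hle) ▸ (show (⟨x, hx.2⟩ : A) ∈ ((P : Subgroup G) ⊓ A).subgroupOf A from hx), rfl⟩

/-- Frattini: a conjugate of `T` inside an intermediate subgroup `X ≤ A` is conjugate to `T` in `X`. -/
theorem exists_frattini {T X : Subgroup G} (hT : ∃ P : Sylow p A, (P : Subgroup A).map A.subtype = T)
    (hTX : T ≤ X) (hXA : X ≤ A) {x : G} (hx : T.map (MulAut.conj x).toMonoidHom ≤ X) :
    ∃ k ∈ X, k⁻¹ * x ∈ Subgroup.normalizer (T : Set G) := by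
  obtain ⟨P, hTP, hPA⟩ := exists_sylow_inf_eq A hT
  have hTp : IsPGroup p T := P.2.to_le hTP
  have hmax : ∀ Q : Subgroup G, IsPGroup p Q → Q ≤ A → T ≤ Q → Q = T := by
    intro Q hQ hQA hTQ
    obtain ⟨R, hR⟩ := hT
    have hle : (R : Subgroup A) ≤ Q.subgroupOf A := fun a ha =>
      hTQ (hR ▸ Subgroup.mem_map_of_mem _ ha)
    have := R.3 (IsPGroup.comap_subtype hQ) hle
    rw [← hR, ← this, Subgroup.map_comap_eq, Subgroup.range_subtype, inf_eq_right.mpr hQA]
  set T' := T.map (MulAut.conj x).toMonoidHom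
  have hT'max : ∀ Q : Subgroup G, IsPGroup p Q → Q ≤ A → T' ≤ Q → Q = T' := by
    intro Q hQ hQA hTQ
    have h1 : Q.map (MulAut.conj x⁻¹).toMonoidHom = T := by
      refine hmax _ (hQ.map _) ?_ ?_
      · rintro _ ⟨y, hy, rfl⟩
        exact hAn.conj_mem y (hQA hy) x⁻¹
      · intro t ht
        exact ⟨x * t * x⁻¹, hTQ ⟨t, ht, rfl⟩, by simp [mul_assoc]⟩
    show Q = T.map (MulAut.conj x).toMonoidHom
    rw [← h1, ← map_conj_mul, mul_inv_cancel]
    convert (Subgroup.map_id Q).symm
    ext z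
    simp
  let S₁ : Sylow p X := ⟨T.subgroupOf X, IsPGroup.comap_subtype hTp, fun {Q} hQ hle => by
    have h := hmax (Q.map X.subtype) (hQ.map _) ((Subgroup.map_subtype_le _).trans hXA)
      (fun t ht => ⟨⟨t, hTX ht⟩, hle ht, rfl⟩)
    rw [← h, Subgroup.subgroupOf, Subgroup.comap_map_eq_self_of_injective X.subtype_injective]⟩
  let S₂ : Sylow p X := ⟨T'.subgroupOf X, IsPGroup.comap_subtype (hTp.map _), fun {Q} hQ hle => by
    have h := hT'max (Q.map X.subtype) (hQ.map _) ((Subgroup.map_subtype_le _).trans hXA)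
      (fun t ht => ⟨⟨t, hx ht⟩, hle ht, rfl⟩)
    rw [← h, Subgroup.subgroupOf, Subgroup.comap_map_eq_self_of_injective X.subtype_injective]⟩
  obtain ⟨k, hk⟩ := MulAction.exists_smul_eq X S₁ S₂
  refine ⟨k, k.2, mem_normalizer_of_map_conj ?_⟩
  have hk' : (T.subgroupOf X).map (MulAut.conj k).toMonoidHom = T'.subgroupOf X := by
    have := congrArg Sylow.toSubgroup hk
    rwa [Sylow.coe_subgroup_smul, Subgroup.pointwise_smul_def] at this
  have hk'' : T.map (MulAut.conj (k : G)).toMonoidHom = T' := by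
    have e := congrArg (Subgroup.map X.subtype) hk'
    rw [Subgroup.subgroupOf_map_subtype, inf_eq_left.mpr hx, Subgroup.map_map] at e
    rw [← e]
    conv_lhs => rw [← inf_eq_left.mpr hTX, ← Subgroup.subgroupOf_map_subtype, Subgroup.map_map]
    rfl
  rw [map_conj_mul, show T.map (MulAut.conj x).toMonoidHom = T' from rfl, ← hk'', ← map_conj_mul,
    inv_mul_cancel]
  convert Subgroup.map_id T
  ext z
  simp

theorem overgroupsPronormal_iff (hA : OvergroupsPronormal p A) (hQ : OvergroupsPronormal p (G ⧸ A))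
    (T : Subgroup G) (hT : ∃ P : Sylow p A, (P : Subgroup A).map A.subtype = T)
    [(T.subgroupOf (Subgroup.normalizer (T : Set G))).Normal] :
    OvergroupsPronormal p G ↔
      (OvergroupsPronormal p
          ((Subgroup.normalizer (T : Set G) : Subgroup G) ⧸ T.subgroupOf (Subgroup.normalizer (T : Set G))) ∧
        ∀ K : Subgroup G, (∃ P : Sylow p G, (P : Subgroup G) ≤ K) →
          (Subgroup.normalizer (K : Set G)).map (QuotientGroup.mk' A) =
            Subgroup.normalizer ((K.map (QuotientGroup.mk' A) : Subgroup (G ⧸ A)) : Set (G ⧸ A))) := by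
  set π := QuotientGroup.mk' A
  have hπ : Function.Surjective π := QuotientGroup.mk'_surjective A
  set N := Subgroup.normalizer (T : Set G) with hN
  set TN := T.subgroupOf N
  obtain ⟨P₁, hTP₁, hP₁A⟩ := exists_sylow_inf_eq A hT
  have hP₁N : (P₁ : Subgroup G) ≤ N := by
    intro x hx
    refine mem_normalizer_of_map_conj ?_
    rw [← hP₁A, Subgroup.map_inf _ _ _ (MulAut.conj x).injective,
      map_conj_of_mem_normalizer (Subgroup.le_normalizer hx),
      map_conj_of_mem_normalizer (by rw [Subgroup.normalizer_eq_top]; exact Subgroup.mem_top x)]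
  set q := QuotientGroup.mk' TN
  have hq : Function.Surjective q := QuotientGroup.mk'_surjective _
  constructor
  · intro hG
    refine ⟨fun X hX => ?_, fun K hK => ?_⟩
    · obtain ⟨R, hR⟩ := hX
      obtain ⟨R', rfl⟩ := Sylow.mapSurjective_surjective hq p R
      obtain ⟨r, hr⟩ := MulAction.exists_smul_eq N (P₁.subtype hP₁N) R'
      have hXG : ∃ P : Sylow p G, (P : Subgroup G) ≤ (X.comap q).map N.subtype := by
        refine ⟨(r : G) • P₁, ?_⟩
        rw [Sylow.coe_subgroup_smul, Subgroup.pointwise_smul_def]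
        rintro _ ⟨y, hy, rfl⟩
        refine ⟨r * ⟨y, hP₁N hy⟩ * r⁻¹, ?_, rfl⟩
        rw [SetLike.mem_coe, Subgroup.mem_comap]
        refine hR ?_
        rw [Sylow.coe_mapSurjective]
        refine Subgroup.mem_map_of_mem q ?_
        rw [← hr, Sylow.coe_subgroup_smul, Subgroup.pointwise_smul_def]
        exact ⟨⟨y, hP₁N hy⟩, hy, rfl⟩
      intro g
      obtain ⟨n, rfl⟩ := hq g
      obtain ⟨w, hw, he⟩ := hG _ hXG (n : G)
      set X' := X.comap q
      have hc : ∀ m : N, (X'.map N.subtype).map (MulAut.conj (m : G)).toMonoidHom =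
          (X'.map (MulAut.conj m).toMonoidHom).map N.subtype := by
        intro m
        rw [Subgroup.map_map, Subgroup.map_map]
        rfl
      rw [hc, ← Subgroup.map_sup] at hw
      obtain ⟨w', hw', rfl⟩ := hw
      rw [hc, Subgroup.coe_subtype, hc] at he
      have he' := Subgroup.map_injective N.subtype_injective he
      have hXeq : X = X'.map q := (Subgroup.map_comap_eq_self_of_surjective hq X).symm
      have hcq : ∀ m : N, X.map (MulAut.conj (q m)).toMonoidHom = (X'.map (MulAut.conj m).toMonoidHom).map q := by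
        intro m
        rw [hXeq, Subgroup.map_map, Subgroup.map_map]
        congr 1
      refine ⟨q w', ?_, by rw [hcq, hcq, he']⟩
      rw [hcq]
      conv => arg 1; arg 1; rw [hXeq]
      rw [← Subgroup.map_sup]
      exact Subgroup.mem_map_of_mem q hw'
    · refine le_antisymm ?_ ?_
      · exact Subgroup.le_normalizer_map _
      · intro y hy
        obtain ⟨g, rfl⟩ := hπ y
        obtain ⟨w, hw, he⟩ := hG K hK g
        have hgK : K.map (MulAut.conj g).toMonoidHom ≤ K ⊔ A := by
          rintro _ ⟨z, hz, rfl⟩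
          have := (Subgroup.mem_normalizer_iff.mp hy (π z)).mp (Subgroup.mem_map_of_mem π hz)
          rw [← map_inv, ← map_mul, ← map_mul] at this
          have h2 : g * z * g⁻¹ ∈ (K.map π).comap π := this
          rwa [Subgroup.comap_map_eq, QuotientGroup.ker_mk'] at h2
        have hwKA : w ∈ A ⊔ K := by
          rw [sup_comm]
          exact sup_le le_sup_left hgK hw
        obtain ⟨a, ha, k, hk, rfl⟩ := Subgroup.mem_sup_of_normal_left.mp hwKA
        rw [map_conj_mul K a k, map_conj_of_mem_normalizer (Subgroup.le_normalizer hk)] at he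
        refine ⟨a⁻¹ * g, mem_normalizer_of_map_conj ?_, ?_⟩
        · rw [map_conj_mul, he, ← map_conj_mul, inv_mul_cancel]
          convert Subgroup.map_id K
          ext z
          simp
        · rw [map_mul, map_inv, show π a = 1 from (QuotientGroup.eq_one_iff a).mpr ha, inv_one, one_mul]
  · rintro ⟨hN', hii⟩ K hK
    obtain ⟨P, hPK⟩ := hK
    obtain ⟨r, rfl⟩ := MulAction.exists_smul_eq G P₁ P
    set K₁ := K.map (MulAut.conj r⁻¹).toMonoidHom with hK₁
    have hP₁K : (P₁ : Subgroup G) ≤ K₁ := by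
      intro y hy
      refine ⟨r * y * r⁻¹, hPK ?_, by simp [mul_assoc]⟩
      rw [Sylow.coe_subgroup_smul, Subgroup.pointwise_smul_def]
      exact ⟨y, hy, rfl⟩
    suffices hpro : Cfsg.IsPronormal K₁ by
      intro x
      have := isPronormal_map_iff (MulAut.conj r) _ hpro x
      have he : K₁.map (MulAut.conj r).toMonoidHom = K := by
        rw [hK₁, ← map_conj_mul, mul_inv_cancel]
        convert Subgroup.map_id K
        ext z
        simp
      rwa [he] at this
    clear_value K₁
    intro g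
    set J := K₁ ⊔ K₁.map (MulAut.conj g).toMonoidHom
    -- reduction to the quotient
    obtain ⟨w, hw, hwe⟩ := hQ (K₁.map π) ⟨P₁.mapSurjective hπ, by
      rw [Sylow.coe_mapSurjective]; exact Subgroup.map_mono hP₁K⟩ (π g)
    have hcπ : ∀ x : G, (K₁.map π).map (MulAut.conj (π x)).toMonoidHom =
        (K₁.map (MulAut.conj x).toMonoidHom).map π := by
      intro x
      rw [Subgroup.map_map, Subgroup.map_map]
      congr 1
    rw [hcπ, ← Subgroup.map_sup] at hw
    obtain ⟨w, hwJ, rfl⟩ := hw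
    have hnorm : π (w⁻¹ * g) ∈ Subgroup.normalizer ((K₁.map π : Subgroup (G ⧸ A)) : Set (G ⧸ A)) := by
      refine mem_normalizer_of_map_conj ?_
      rw [map_mul, map_conj_mul, hwe, ← map_conj_mul, map_inv, inv_mul_cancel]
      convert Subgroup.map_id (K₁.map π)
      ext z
      simp
    rw [← hii K₁ ⟨P₁, hP₁K⟩] at hnorm
    obtain ⟨n, hn, hne⟩ := hnorm
    set a := w⁻¹ * g * n⁻¹
    have haA : a ∈ A := by
      rw [← QuotientGroup.eq_one_iff]
      show π a = 1
      rw [map_mul, map_inv, ← hne]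
      exact mul_inv_cancel _
    have hga : K₁.map (MulAut.conj (w⁻¹ * g)).toMonoidHom = K₁.map (MulAut.conj a).toMonoidHom := by
      rw [show w⁻¹ * g = a * n by simp [a], map_conj_mul, map_conj_of_mem_normalizer hn]
    have hJa : K₁ ⊔ K₁.map (MulAut.conj a).toMonoidHom ≤ J := by
      refine sup_le le_sup_left ?_
      rw [← hga, map_conj_mul]
      rintro _ ⟨z, hz, rfl⟩
      have hz' : z ∈ J := Subgroup.mem_sup_right hz
      show w⁻¹ * z * w⁻¹⁻¹ ∈ J
      exact mul_mem (mul_mem (inv_mem hwJ) hz') (inv_mem (inv_mem hwJ))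
    -- inside `A`
    set KA := K₁.subgroupOf A
    obtain ⟨QA, hQA⟩ := hT
    have hQAK : (QA : Subgroup A) ≤ KA := fun y hy =>
      hP₁K (hTP₁ (hQA ▸ Subgroup.mem_map_of_mem A.subtype hy))
    obtain ⟨x, hx, hxe⟩ := hA KA ⟨QA, hQAK⟩ ⟨a, haA⟩
    have hKA : KA.map A.subtype = K₁ ⊓ A := Subgroup.subgroupOf_map_subtype _ _
    have hcA : ∀ m : A, (KA.map (MulAut.conj m).toMonoidHom).map A.subtype =
        (K₁ ⊓ A).map (MulAut.conj (m : G)).toMonoidHom := by
      intro m
      rw [← hKA, Subgroup.map_map, Subgroup.map_map]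
      rfl
    have hxJ : (x : G) ∈ K₁ ⊔ K₁.map (MulAut.conj a).toMonoidHom := by
      have h1 : (x : G) ∈ (KA ⊔ KA.map (MulAut.conj (⟨a, haA⟩ : A)).toMonoidHom).map A.subtype :=
        Subgroup.mem_map_of_mem A.subtype hx
      rw [Subgroup.map_sup, hcA, hKA] at h1
      exact sup_le_sup inf_le_left (Subgroup.map_mono inf_le_left) h1
    set b := (x : G)⁻¹ * a with hb
    have hbKA : (K₁ ⊓ A).map (MulAut.conj b).toMonoidHom = K₁ ⊓ A := by
      have e := congrArg (Subgroup.map A.subtype) hxe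
      rw [hcA, hcA] at e
      rw [hb, map_conj_mul, show (a : G) = ((⟨a, haA⟩ : A) : G) from rfl, e, ← map_conj_mul, inv_mul_cancel]
      convert Subgroup.map_id (K₁ ⊓ A)
      ext z
      simp
    have hTKA : T ≤ K₁ ⊓ A := le_inf (hTP₁.trans hP₁K) (hP₁A ▸ inf_le_right)
    obtain ⟨k, hk, hkb⟩ := exists_frattini A ⟨QA, hQA⟩ hTKA inf_le_right (x := b)
      (by rw [← hbKA]; exact Subgroup.map_mono hTKA)
    set t := k⁻¹ * b
    have htKA : t ∈ Subgroup.normalizer ((K₁ ⊓ A : Subgroup G) : Set G) :=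
      mul_mem (inv_mem (Subgroup.le_normalizer hk)) (mem_normalizer_of_map_conj hbKA)
    -- inside `N/T`
    set KN := K₁.subgroupOf N
    obtain ⟨y, hy, hye⟩ := hN' (KN.map q) ⟨(P₁.subtype hP₁N).mapSurjective hq, by
      rw [Sylow.coe_mapSurjective]
      exact Subgroup.map_mono fun z hz => hP₁K hz⟩ (q ⟨t, hkb⟩)
    have hcN : ∀ m : N, (KN.map q).map (MulAut.conj (q m)).toMonoidHom =
        (KN.map (MulAut.conj m).toMonoidHom).map q := by
      intro m
      rw [Subgroup.map_map, Subgroup.map_map]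
      congr 1
    rw [hcN, ← Subgroup.map_sup] at hy
    obtain ⟨y, hy, rfl⟩ := hy
    rw [hcN, hcN] at hye
    have hTKN : ∀ m : N, q.ker ≤ KN.map (MulAut.conj m).toMonoidHom := by
      intro m z hz
      rw [QuotientGroup.ker_mk'] at hz
      refine ⟨m⁻¹ * z * m, ?_, by simp [mul_assoc]⟩
      have := (Subgroup.mem_normalizer_iff.mp m⁻¹.2 (z : G)).mp hz
      exact (hTP₁.trans hP₁K) (by simpa using this)
    have hyeq : KN.map (MulAut.conj (⟨t, hkb⟩ : N)).toMonoidHom = KN.map (MulAut.conj y).toMonoidHom := by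
      have e := congrArg (Subgroup.comap q) hye
      rwa [Subgroup.comap_map_eq, Subgroup.comap_map_eq, sup_eq_left.mpr (hTKN _),
        sup_eq_left.mpr (hTKN _)] at e
    have hKNn : ∀ m : KN, ((m : N) : G) ∈ Subgroup.normalizer ((K₁ ⊓ A : Subgroup G) : Set G) := by
      intro m
      refine mem_normalizer_of_map_conj ?_
      rw [Subgroup.map_inf _ _ _ (MulAut.conj ((m : N) : G)).injective,
        map_conj_of_mem_normalizer (Subgroup.le_normalizer (show ((m : N) : G) ∈ K₁ from m.2)),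
        map_conj_of_mem_normalizer (by rw [Subgroup.normalizer_eq_top]; exact Subgroup.mem_top _)]
    have hyKA : (y : G) ∈ Subgroup.normalizer ((K₁ ⊓ A : Subgroup G) : Set G) := by
      have : KN ⊔ KN.map (MulAut.conj (⟨t, hkb⟩ : N)).toMonoidHom ≤
          (Subgroup.normalizer ((K₁ ⊓ A : Subgroup G) : Set G)).comap N.subtype := by
        refine sup_le (fun m hm => hKNn ⟨m, hm⟩) ?_
        rintro _ ⟨m, hm, rfl⟩
        exact mul_mem (mul_mem htKA (hKNn ⟨m, hm⟩)) (inv_mem htKA)
      exact this hy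
    have hKsplit : K₁ = (K₁ ⊓ A) ⊔ KN.map N.subtype := by
      refine le_antisymm (fun z hz => ?_) (sup_le inf_le_left (by rintro _ ⟨m, hm, rfl⟩; exact hm))
      obtain ⟨c, hc, hcz⟩ := exists_frattini A ⟨QA, hQA⟩ hTKA inf_le_right (x := z) (by
        refine le_trans (Subgroup.map_mono hTKA) (le_of_eq ?_)
        rw [Subgroup.map_inf _ _ _ (MulAut.conj z).injective,
          map_conj_of_mem_normalizer (Subgroup.le_normalizer hz),
          map_conj_of_mem_normalizer (by rw [Subgroup.normalizer_eq_top]; exact Subgroup.mem_top _)])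
      rw [show z = c * (c⁻¹ * z) by group]
      exact mul_mem (Subgroup.mem_sup_left hc)
        (Subgroup.mem_sup_right ⟨⟨c⁻¹ * z, hcz⟩, show c⁻¹ * z ∈ K₁ from K₁.mul_mem (K₁.inv_mem hc.1) hz, rfl⟩)
    have hmain : ∀ m : N, (m : G) ∈ Subgroup.normalizer ((K₁ ⊓ A : Subgroup G) : Set G) →
        K₁.map (MulAut.conj (m : G)).toMonoidHom =
          (K₁ ⊓ A) ⊔ (KN.map (MulAut.conj m).toMonoidHom).map N.subtype := by
      intro m hm
      conv_lhs => rw [hKsplit]
      rw [Subgroup.map_sup, map_conj_of_mem_normalizer hm, Subgroup.map_map, Subgroup.map_map]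
      rfl
    have hty : K₁.map (MulAut.conj t).toMonoidHom = K₁.map (MulAut.conj (y : G)).toMonoidHom := by
      rw [hmain ⟨t, hkb⟩ htKA, hmain y hyKA, hyeq]
    -- assembling
    have hKt : K₁.map (MulAut.conj t).toMonoidHom ≤ J := by
      have e : t = k⁻¹ * ((x : G)⁻¹ * a) := rfl
      rw [e, map_conj_mul, map_conj_mul]
      rintro _ ⟨_, ⟨z, hz, rfl⟩, rfl⟩
      have hzJ : z ∈ J := hJa (Subgroup.mem_sup_right hz)
      have hx' : (x : G) ∈ J := hJa hxJ
      have hk' : k ∈ J := Subgroup.mem_sup_left hk.1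
      exact mul_mem (mul_mem (inv_mem hk') (mul_mem (mul_mem (inv_mem hx') hzJ) (inv_mem (inv_mem hx'))))
        (inv_mem (inv_mem hk'))
    have hyJ : (y : G) ∈ J := by
      have : KN ⊔ KN.map (MulAut.conj (⟨t, hkb⟩ : N)).toMonoidHom ≤ J.comap N.subtype := by
        refine sup_le (fun m hm => Subgroup.mem_sup_left hm) ?_
        rintro _ ⟨m, hm, rfl⟩
        exact hKt ⟨_, hm, rfl⟩
      exact this hy
    refine ⟨w * (x * (k * y)), mul_mem hwJ (mul_mem (hJa hxJ) (mul_mem (Subgroup.mem_sup_left hk.1) hyJ)), ?_⟩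
    calc K₁.map (MulAut.conj g).toMonoidHom
        = (K₁.map (MulAut.conj (w⁻¹ * g)).toMonoidHom).map (MulAut.conj w).toMonoidHom := by
          rw [← map_conj_mul, mul_inv_cancel_left]
      _ = (K₁.map (MulAut.conj (x * (k * t))).toMonoidHom).map (MulAut.conj w).toMonoidHom := by
          rw [hga]; simp [t, hb]
      _ = _ := by rw [map_conj_mul K₁ x, map_conj_mul K₁ k t, hty, map_conj_mul K₁ w, map_conj_mul K₁ x,
          map_conj_mul K₁ k y]

end CfsgLib.Pronormal
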