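import Cfsg.Agent.Classical.SylowTwoGLTwo
import Cfsg.Agent.Classical.SylowTwoSL
import Cfsg.Agent.Invol.FusionSystemSimple

/-!
The data about Sylow 2-subgroups of `GL_2(q)` and `GU_2(q)`, `q` odd, needed for the wreath product
construction in degree `2m`.
-/

set_option autoImplicit false

namespace CfsgLib.Pronormal

open Matrix
open scoped MatrixGroups

variable {F : Type*} [Field F]

/-- Scalar matrices. -/
def scal (ν : Type*) [Fintype ν] [DecidableEq ν] : Fˣ →* GL ν F :=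
  Units.map (Matrix.scalar ν : F →+* Matrix ν ν F).toMonoidHom

theorem scal_val {ν : Type*} [Fintype ν] [DecidableEq ν] (r : Fˣ) :
    ((scal ν r : GL ν F) : Matrix ν ν F) = Matrix.diagonal fun _ => (r : F) := rfl

theorem scal_comm {ν : Type*} [Fintype ν] [DecidableEq ν] (r : Fˣ) (g : GL ν F) :
    scal ν r * g = g * scal ν r :=
  Units.ext (Matrix.ext fun i j => by simp [scal_val, Units.val_mul, mul_comm])

theorem scal_injective : Function.Injective (scal (F := F) (Fin 2)) := fun a b h => by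
  have := congrArg (fun g : GL (Fin 2) F => (g : Matrix (Fin 2) (Fin 2) F) 0 0) h
  simpa [scal_val, Units.val_inj] using this

/-- A matrix of size two centralising two non-commuting matrices is scalar. -/
theorem exists_scal_of_commute {g a b : GL (Fin 2) F} (hab : a * b ≠ b * a) (ha : g * a = a * g)
    (hb : g * b = b * g) : ∃ r : Fˣ, g = scal (Fin 2) r := by
  set G := ((g : GL (Fin 2) F) : Matrix (Fin 2) (Fin 2) F)
  by_cases h : G 0 1 = 0 ∧ G 1 0 = 0 ∧ G 0 0 = G 1 1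
  · have h0 : G 0 0 ≠ 0 := by
      intro e
      have := g.det_ne_zero
      rw [Matrix.det_fin_two] at this
      simp [G, h.1, h.2.1, show ((g : GL (Fin 2) F) : Matrix (Fin 2) (Fin 2) F) 0 0 = 0 from e] at this
    refine ⟨Units.mk0 _ h0, Units.ext (Matrix.ext fun i j => ?_)⟩
    fin_cases i <;> fin_cases j <;> simp [scal_val, G] <;>
      first | exact h.1 | exact h.2.1 | exact h.2.2.symm
  exfalso
  apply hab
  have hc : ∀ {x : GL (Fin 2) F}, g * x = x * g → ∀ i j,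
      (G * (x : Matrix (Fin 2) (Fin 2) F)) i j = ((x : Matrix (Fin 2) (Fin 2) F) * G) i j :=
    fun {x} e i j => by
      have := congrArg (fun u : GL (Fin 2) F => (u : Matrix (Fin 2) (Fin 2) F) i j) e
      simpa using this
  have a1 := hc ha 0 0; have a2 := hc ha 0 1; have a3 := hc ha 1 0
  have b1 := hc hb 0 0; have b2 := hc hb 0 1; have b3 := hc hb 1 0
  set A := ((a : GL (Fin 2) F) : Matrix (Fin 2) (Fin 2) F)
  set B := ((b : GL (Fin 2) F) : Matrix (Fin 2) (Fin 2) F)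
  simp only [Matrix.mul_apply, Fin.sum_univ_two] at a1 a2 a3 b1 b2 b3
  refine Units.ext (Matrix.ext fun i j => ?_)
  show (A * B) i j = (B * A) i j
  simp only [Matrix.mul_apply, Fin.sum_univ_two]
  have key : A 0 1 * B 1 0 = B 0 1 * A 1 0 ∧ A 0 1 * (B 1 1 - B 0 0) = B 0 1 * (A 1 1 - A 0 0) ∧
      A 1 0 * (B 1 1 - B 0 0) = B 1 0 * (A 1 1 - A 0 0) := by
    rcases not_and_or.mp h with h1 | h1
    · have k1 : A 0 1 * B 1 0 = B 0 1 * A 1 0 :=
        mul_left_cancel₀ h1 (by linear_combination (A 0 1) * b1 - (B 0 1) * a1)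
      refine ⟨k1, mul_left_cancel₀ h1 ?_, mul_left_cancel₀ h1 ?_⟩
      · linear_combination (A 0 1) * b2 - (B 0 1) * a2
      · linear_combination (A 1 0) * b2 - (B 1 0) * a2 - (G 1 1 - G 0 0) * k1
    rcases not_and_or.mp h1 with h2 | h2
    · have k1 : A 0 1 * B 1 0 = B 0 1 * A 1 0 :=
        mul_left_cancel₀ h2 (by linear_combination (A 1 0) * b1 - (B 1 0) * a1)
      refine ⟨k1, mul_left_cancel₀ h2 ?_, mul_left_cancel₀ h2 ?_⟩
      · linear_combination -(A 0 1 * b3) + (B 0 1) * a3 + (G 1 1 - G 0 0) * k1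
      · linear_combination -(A 1 0 * b3) + (B 1 0) * a3
    · have h2' : G 0 0 - G 1 1 ≠ 0 := sub_ne_zero.mpr h2
      have k2 : A 0 1 * (B 1 1 - B 0 0) = B 0 1 * (A 1 1 - A 0 0) :=
        mul_left_cancel₀ h2' (by linear_combination (B 1 1 - B 0 0) * a2 - (A 1 1 - A 0 0) * b2)
      refine ⟨mul_left_cancel₀ h2' ?_, k2, mul_left_cancel₀ h2' ?_⟩
      · linear_combination (B 1 0) * a2 - (A 1 0) * b2 + (A 0 0 - A 1 1) * b1 - (B 0 0 - B 1 1) * a1 +
          (G 1 0) * k2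
      · linear_combination -((B 1 1 - B 0 0) * a3) + (A 1 1 - A 0 0) * b3
  obtain ⟨k1, k2, k3⟩ := key
  fin_cases i <;> fin_cases j <;> dsimp
  · linear_combination k1
  · linear_combination k2
  · linear_combination (-1 : F) * k3
  · linear_combination (-1 : F) * k1

/-- What is used about a Sylow 2-subgroup of a two-dimensional classical group. -/
structure TwoData (G₂ : Subgroup (GL (Fin 2) F)) where
  S : Subgroup (GL (Fin 2) F)
  le : S ≤ G₂
  isPGroup : IsPGroup 2 S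
  central : ∀ r : Fˣ, scal (Fin 2) r ∈ G₂ → (∃ k : ℕ, r ^ 2 ^ k = 1) → scal (Fin 2) r ∈ S
  norm : ∀ g ∈ G₂, (∀ s ∈ S, g * s * g⁻¹ ∈ S) → ∃ r : Fˣ, g * (scal (Fin 2) r)⁻¹ ∈ S
  quat : ∃ i ∈ S, ∃ j ∈ S, (i : Matrix (Fin 2) (Fin 2) F).det = 1 ∧ (j : Matrix (Fin 2) (Fin 2) F).det = 1 ∧
    i * i = scal (Fin 2) (-1) ∧ j * j = scal (Fin 2) (-1) ∧ i * j = scal (Fin 2) (-1) * (j * i)

open CfsgLib.SL2C in
theorem exists_twoData [Finite F] (hodd : Odd (Nat.card F)) (G₂ : Subgroup (GL (Fin 2) F))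
    (hSyl : ∀ P : Sylow 2 G₂,
      Cfsg.IsQuasiDihedral (P : Subgroup G₂) ∨ Cfsg.IsWreathed (P : Subgroup G₂))
    {K : Type*} [Field K] [Finite K] (hKodd : Odd (Nat.card K))
    (φ : SL K →* GL (Fin 2) F) (hinj : Function.Injective φ) (hmem : ∀ x, φ x ∈ G₂)
    (hdet : ∀ x, (φ x : Matrix (Fin 2) (Fin 2) F).det = 1) : Nonempty (TwoData G₂) := by
  have : Fact (Nat.Prime 2) := ⟨Nat.prime_two⟩
  have : Fintype F := Fintype.ofFinite F
  have : Fintype K := Fintype.ofFinite K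
  obtain ⟨P₀⟩ := (inferInstance : Nonempty (Sylow 2 (SL K)))
  obtain ⟨k, hk, ⟨e⟩⟩ := CfsgLib.Linear.SylowTwoSL.exists_quaternion
    (by rwa [← Nat.card_eq_fintype_card]) P₀
  let ψ : QuaternionGroup (2 ^ k) →* G₂ :=
    (φ.codRestrict G₂ hmem).comp ((P₀ : Subgroup (SL K)).subtype.comp e.symm.toMonoidHom)
  have hψ : Function.Injective ψ := fun x y h =>
    e.symm.injective (Subtype.ext (hinj (congrArg Subtype.val h)))
  have hψdet : ∀ x, (((ψ x : G₂) : GL (Fin 2) F) : Matrix (Fin 2) (Fin 2) F).det = 1 := fun x => hdet _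
  have hrange : IsPGroup 2 ψ.range := by
    rintro ⟨_, x, rfl⟩
    obtain ⟨l, hl⟩ := P₀.2 (e.symm x)
    refine ⟨l, Subtype.ext ?_⟩
    have hx : x ^ 2 ^ l = 1 := e.symm.injective (by rw [map_pow, hl, map_one])
    simp only [SubmonoidClass.coe_pow, ← map_pow, hx, map_one, OneMemClass.coe_one]
  obtain ⟨P, hP⟩ := hrange.exists_le_sylow
  -- the quaternion elements
  have hn : (2 ^ (k - 1) + 2 ^ (k - 1) : ℕ) = 2 ^ k := by
    rw [← two_mul, ← pow_succ', Nat.sub_add_cancel hk]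
  set c : ZMod (2 * 2 ^ k) := ((2 ^ (k - 1) : ℕ) : ZMod (2 * 2 ^ k))
  have hcc : c + c = ((2 ^ k : ℕ) : ZMod (2 * 2 ^ k)) := by rw [← Nat.cast_add, hn]
  have h4 : ((2 ^ k : ℕ) : ZMod (2 * 2 ^ k)) + ((2 ^ k : ℕ) : ZMod (2 * 2 ^ k)) = 0 := by
    rw [← Nat.cast_add, ← two_mul, ZMod.natCast_self]
  set z : QuaternionGroup (2 ^ k) := QuaternionGroup.a ((2 ^ k : ℕ) : ZMod (2 * 2 ^ k))
  set I : QuaternionGroup (2 ^ k) := QuaternionGroup.a c
  set J : QuaternionGroup (2 ^ k) := QuaternionGroup.xa 0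
  have hII : I * I = z := by simp only [I, z, QuaternionGroup.a_mul_a, hcc]
  have hJJ : J * J = z := by simp [J, z]
  have hIJ : I * J = z * (J * I) := by
    simp only [I, J, z, QuaternionGroup.a_mul_xa, QuaternionGroup.xa_mul_a, zero_sub, zero_add]
    congr 1
    linear_combination (norm := ring_nf) (-1 : ZMod (2 * 2 ^ k)) * hcc
  have hz1 : z ≠ 1 := by
    intro h
    rw [← QuaternionGroup.a_zero] at h
    have h' : ((2 ^ k : ℕ) : ZMod (2 * 2 ^ k)) = 0 := QuaternionGroup.a.inj h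
    rw [ZMod.natCast_eq_zero_iff] at h'
    have := Nat.le_of_dvd (Nat.two_pow_pos k) h'
    have := Nat.two_pow_pos k
    omega
  have hzz : z * z = 1 := by simp only [z, QuaternionGroup.a_mul_a, h4, QuaternionGroup.a_zero]
  have hneg : ((ψ z : G₂) : GL (Fin 2) F) = scal (Fin 2) (-1) := by
    set s : SL F := ⟨_, hψdet z⟩
    have h1 : s ≠ 1 := by
      intro h
      refine hz1 (hψ ?_)
      rw [map_one]
      exact Subtype.ext (Units.ext (congrArg Subtype.val h))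
    have h2 : s * s = 1 := by
      refine Subtype.ext ?_
      show (((ψ z : G₂) : GL (Fin 2) F) : Matrix (Fin 2) (Fin 2) F) * _ = 1
      rw [← Units.val_mul, ← Subgroup.coe_mul, ← map_mul, hzz, map_one]
      rfl
    have h3 := congrArg Subtype.val
      (CfsgLib.Linear.SylowTwoSL.eq_neg_one (by rwa [← Nat.card_eq_fintype_card]) h1 h2)
    refine Units.ext (h3.trans (Matrix.ext fun i j => ?_))
    rw [show ((negOne F : SL F) : Matrix (Fin 2) (Fin 2) F) =
      !![((-1 : Fˣ) : F), 0; 0, (((-1 : Fˣ)⁻¹ : Fˣ) : F)] from rfl]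
    fin_cases i <;> fin_cases j <;> simp [scal_val]
  have hne2 : (-1 : Fˣ) ≠ 1 := by
    intro h
    have := congrArg Units.val h
    apply hz1
    refine hψ (Subtype.ext ?_)
    rw [hneg, h, map_one, map_one]
    rfl
  set S : Subgroup (GL (Fin 2) F) := (P : Subgroup G₂).map G₂.subtype
  have hmemS : ∀ x, ((ψ x : G₂) : GL (Fin 2) F) ∈ S := fun x =>
    Subgroup.mem_map_of_mem G₂.subtype (hP ⟨x, rfl⟩)
  have hnorm_mem : ∀ g : G₂, g ∈ Subgroup.normalizer ((P : Subgroup G₂) : Set G₂) →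
      (∃ l : ℕ, g ^ 2 ^ l = 1) → g ∈ (P : Subgroup G₂) := by
    rintro g hg ⟨l, hl⟩
    have hgp : IsPGroup 2 (Subgroup.zpowers g) := by
      rintro ⟨_, i, rfl⟩
      refine ⟨l, Subtype.ext ?_⟩
      simp only [SubmonoidClass.coe_pow, OneMemClass.coe_one]
      rw [← zpow_natCast, ← _root_.zpow_mul, mul_comm, _root_.zpow_mul, zpow_natCast, hl, _root_.one_zpow]
    have h := hgp.inf_normalizer_sylow P
    have hmem : g ∈ Subgroup.zpowers g ⊓ Subgroup.normalizer ((P : Subgroup G₂) : Set G₂) :=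
      ⟨Subgroup.mem_zpowers g, hg⟩
    exact (h.le hmem).2
  refine ⟨⟨S, Subgroup.map_subtype_le _, P.2.map _, ?_, ?_, ?_⟩⟩
  · rintro r hr ⟨l, hl⟩
    refine ⟨⟨_, hr⟩, hnorm_mem _ ?_ ⟨l, Subtype.ext (by simp [← map_pow, hl])⟩, rfl⟩
    refine Subgroup.mem_normalizer_iff.mpr fun y => ?_
    have : (⟨_, hr⟩ : G₂) * y * (⟨_, hr⟩ : G₂)⁻¹ = y := by
      rw [mul_inv_eq_iff_eq_mul]
      exact Subtype.ext (scal_comm r _)
    rw [this]
  · intro g hg hgS
    set γ : G₂ := ⟨g, hg⟩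
    have hfin : ∀ a : (P : Subgroup G₂), γ * (a : G₂) * γ⁻¹ ∈ (P : Subgroup G₂) := by
      intro a
      obtain ⟨w, hw, he⟩ := hgS (a : G₂) ⟨a, a.2, rfl⟩
      have : w = γ * a * γ⁻¹ := Subtype.ext he
      rwa [← this]
    let fmap : (P : Subgroup G₂) →* (P : Subgroup G₂) :=
      { toFun := fun a => ⟨_, hfin a⟩
        map_one' := Subtype.ext (by simp)
        map_mul' := fun a b => Subtype.ext (by simp [mul_assoc]) }
    have hfinj : Function.Injective fmap := fun a b h => Subtype.ext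
      (mul_left_cancel (mul_right_cancel (congrArg Subtype.val h :
        γ * (a : G₂) * γ⁻¹ = γ * (b : G₂) * γ⁻¹)))
    have hγN : γ ∈ Subgroup.normalizer ((P : Subgroup G₂) : Set G₂) := by
      refine Subgroup.mem_normalizer_iff.mpr fun y => ⟨fun hy => hfin ⟨y, hy⟩, fun hy => ?_⟩
      obtain ⟨a, ha⟩ := (Finite.injective_iff_surjective.mp hfinj) ⟨_, hy⟩
      have : (a : G₂) = y := mul_left_cancel (mul_right_cancel (congrArg Subtype.val ha :
        γ * (a : G₂) * γ⁻¹ = γ * y * γ⁻¹))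
      exact this ▸ a.2
    let α : MulAut (P : Subgroup G₂) :=
      MulEquiv.ofBijective fmap ⟨hfinj, Finite.injective_iff_surjective.mp hfinj⟩
    have hα : ∀ (j : ℕ) (y : (P : Subgroup G₂)), (((α ^ j) y : (P : Subgroup G₂)) : G₂) =
        γ ^ j * (y : G₂) * (γ ^ j)⁻¹ := by
      intro j
      induction j with
      | zero => simp
      | succ j ih =>
        intro y
        rw [pow_succ', MulAut.mul_apply]
        change γ * (((α ^ j) y : (P : Subgroup G₂)) : G₂) * γ⁻¹ = _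
        rw [ih, pow_succ']
        group
    obtain ⟨l, hl⟩ := CfsgLib.InvolPattern.isPGroup_mulAut_sylow (hSyl P) α
    have hcent : ∀ y ∈ (P : Subgroup G₂), γ ^ 2 ^ l * y * (γ ^ 2 ^ l)⁻¹ = y := by
      intro y hy
      have := hα (2 ^ l) ⟨y, hy⟩
      rw [hl] at this
      exact this.symm
    obtain ⟨r, hr⟩ : ∃ r : Fˣ, g ^ 2 ^ l = scal (Fin 2) r := by
      have hc : ∀ x, g ^ 2 ^ l * ((ψ x : G₂) : GL (Fin 2) F) = ((ψ x : G₂) : GL (Fin 2) F) * g ^ 2 ^ l := by
        intro x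
        have h := congrArg Subtype.val (hcent (ψ x) (hP ⟨x, rfl⟩))
        exact mul_inv_eq_iff_eq_mul.mp (by simpa using h)
      refine exists_scal_of_commute ?_ (hc I) (hc J)
      intro hcomm
      rw [← Subgroup.coe_mul, ← Subgroup.coe_mul, ← map_mul, ← map_mul, hIJ, map_mul, Subgroup.coe_mul,
        hneg] at hcomm
      exact hne2 (scal_injective (by rw [map_one]; exact mul_eq_right.mp hcomm))
    obtain ⟨a, b, hb, hab⟩ := Nat.exists_eq_two_pow_mul_odd (orderOf_pos γ).ne'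
    have hcop : IsCoprime ((2 : ℤ) ^ l) (b : ℤ) := by
      refine IsCoprime.pow_left ?_
      rw [Int.isCoprime_iff_nat_coprime]
      simpa using (Nat.coprime_two_left.mpr hb)
    obtain ⟨x, y, hxy⟩ := hcop
    refine ⟨r ^ x, ?_⟩
    have hz : γ ^ ((b : ℤ) * y) ∈ (P : Subgroup G₂) := by
      refine hnorm_mem _ (zpow_mem hγN _) ⟨a, ?_⟩
      rw [← zpow_natCast, ← _root_.zpow_mul,
        show ((b : ℤ) * y) * ((2 ^ a : ℕ) : ℤ) = ((2 ^ a * b : ℕ) : ℤ) * y by push_cast; ring,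
        _root_.zpow_mul, zpow_natCast, ← hab, pow_orderOf_eq_one, _root_.one_zpow]
    refine ⟨_, hz, ?_⟩
    show ((γ ^ ((b : ℤ) * y) : G₂) : GL (Fin 2) F) = g * (scal (Fin 2) (r ^ x))⁻¹
    rw [map_zpow, ← hr, Subgroup.coe_zpow, ← zpow_natCast, ← _root_.zpow_mul, eq_mul_inv_iff_mul_eq,
      ← _root_.zpow_add, show (b : ℤ) * y + ((2 ^ l : ℕ) : ℤ) * x = 1 by push_cast; linear_combination hxy,
      _root_.zpow_one]
  · refine ⟨_, hmemS I, _, hmemS J, hψdet I, hψdet J, ?_, ?_, ?_⟩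
    · rw [← Subgroup.coe_mul, ← map_mul, hII, hneg]
    · rw [← Subgroup.coe_mul, ← map_mul, hJJ, hneg]
    · rw [← Subgroup.coe_mul, ← map_mul, hIJ, map_mul, map_mul, Subgroup.coe_mul, Subgroup.coe_mul, hneg]

end CfsgLib.Pronormal
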