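import Cfsg.Agent.Pronormal.BlockMono
import Cfsg.Agent.Pronormal.TwoDim
import Cfsg.Agent.Pronormal.Criterion
import Cfsg.Agent.SylowAlt.Normalizer
import Mathlib.GroupTheory.Perm.Fin

/-!
Degree `2m` with `m` a power of two, odd characteristic: the wreathed Sylow 2-subgroup is
self-normalising.
-/

set_option autoImplicit false

namespace CfsgLib.Pronormal

open Matrix
open scoped MatrixGroups

variable {m : ℕ} {F : Type*} [Field F]

/-- A subgroup of `GL_{2m}` of determinant one containing the block monomial matrices over `G₂`. -/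
structure WreathSetting (G : Subgroup (GL (Fin 2 × Fin m) F)) (G₂ : Subgroup (GL (Fin 2) F)) : Prop where
  det_one : ∀ g ∈ G, (g : Matrix (Fin 2 × Fin m) (Fin 2 × Fin m) F).det = 1
  mem : ∀ (g : Fin m → GL (Fin 2) F) (π : Equiv.Perm (Fin m)), (∀ c, g c ∈ G₂) →
    ∏ c, (g c : Matrix (Fin 2) (Fin 2) F).det = 1 → bmGL g π ∈ G
  blocks : ∀ (g : Fin m → GL (Fin 2) F) (π : Equiv.Perm (Fin m)), bmGL g π ∈ G → ∀ c, g c ∈ G₂

theorem mem_normalizer_of_forall {X : Type*} [Group X] [Finite X] {H : Subgroup X} {x : X}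
    (h : ∀ y ∈ H, x * y * x⁻¹ ∈ H) : x ∈ Subgroup.normalizer (H : Set X) := by
  refine Subgroup.mem_normalizer_iff.mpr fun y => ⟨h y, fun hy => ?_⟩
  let f : H → H := fun a => ⟨_, h a a.2⟩
  have hf : Function.Injective f := fun a b e => Subtype.ext (mul_left_cancel (mul_right_cancel
      (congrArg Subtype.val e : x * (a : X) * x⁻¹ = x * (b : X) * x⁻¹)))
  obtain ⟨a, ha⟩ := (Finite.injective_iff_surjective.mp hf) ⟨_, hy⟩
  have : (a : X) = y := mul_left_cancel (mul_right_cancel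
    (congrArg Subtype.val ha : x * (a : X) * x⁻¹ = x * y * x⁻¹))
  exact this ▸ a.2

/-- The diagonal involution negating block `a`. -/
def tdiag (a : Fin m) : Matrix (Fin 2 × Fin m) (Fin 2 × Fin m) F :=
  Matrix.diagonal fun x => if x.2 = a then -1 else 1

theorem bmat_update_neg (a : Fin m) :
    bmat (Function.update (fun _ => (1 : Matrix (Fin 2) (Fin 2) F)) a (-1)) 1 = tdiag a := by
  ext ⟨e, c⟩ ⟨f, d⟩
  rw [bmat_apply, tdiag, Equiv.Perm.one_apply, Matrix.diagonal_apply]
  rcases eq_or_ne c d with rfl | hcd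
  · rcases eq_or_ne c a with rfl | hca
    · simp [Matrix.one_apply]
      split_ifs <;> simp
    · simp [hca, Matrix.one_apply]
  · simp [hcd]

theorem two_blocks_absurd (h2 : (2 : F) ≠ 0) {K : GL (Fin 2 × Fin m) F} {a : Fin m}
    {w : Fin m → Matrix (Fin 2) (Fin 2) F}
    (h : (K : Matrix (Fin 2 × Fin m) (Fin 2 × Fin m) F) * tdiag a *
      ((K⁻¹ : GL (Fin 2 × Fin m) F) : Matrix (Fin 2 × Fin m) (Fin 2 × Fin m) F) = bmat w 1)
    {c d : Fin m} (hc : w c = -1) (hd : w d = -1) : c = d := by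
  classical
  by_contra hne
  set K₀ := ((K : GL (Fin 2 × Fin m) F) : Matrix (Fin 2 × Fin m) (Fin 2 × Fin m) F)
  set K₁ := ((K⁻¹ : GL (Fin 2 × Fin m) F) : Matrix (Fin 2 × Fin m) (Fin 2 × Fin m) F)
  let A : Matrix (Fin 2 × Fin m) (Fin 2) F := Matrix.of fun x e => if x.2 = a ∧ x.1 = e then -2 else 0
  let B : Matrix (Fin 2) (Fin 2 × Fin m) F := Matrix.of fun e x => if x.2 = a ∧ x.1 = e then 1 else 0
  have hAB : tdiag a - 1 = A * B := by
    ext ⟨e, p⟩ ⟨f, r⟩
    simp only [Matrix.sub_apply, tdiag, Matrix.diagonal_apply, Matrix.one_apply, Matrix.mul_apply, A, B,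
      Matrix.of_apply, Fin.sum_univ_two, Prod.mk.injEq]
    fin_cases e <;> fin_cases f <;> simp <;> split_ifs <;> simp_all <;> norm_num
  have hfac : bmat w 1 - 1 = (K₀ * A) * (B * K₁) := by
    rw [← h, show K₀ * A * (B * K₁) = K₀ * (A * B) * K₁ by simp only [Matrix.mul_assoc], ← hAB,
      Matrix.mul_sub, Matrix.sub_mul, mul_one, ← Units.val_mul, mul_inv_cancel, Units.val_one]
  let em : Fin 2 × Fin 2 → Fin 2 × Fin m := fun x => (x.1, if x.2 = 0 then c else d)
  have hsub : (bmat w 1 - 1).submatrix em em = (-2 : F) • (1 : Matrix (Fin 2 × Fin 2) (Fin 2 × Fin 2) F) := by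
    ext ⟨e, s⟩ ⟨f, t⟩
    simp only [Matrix.submatrix_apply, em, Matrix.sub_apply, bmat_apply, Equiv.Perm.one_apply,
      Matrix.smul_apply, Matrix.one_apply, Prod.mk.injEq]
    fin_cases e <;> fin_cases f <;> fin_cases s <;> fin_cases t <;>
      simp [hc, hd, hne, Ne.symm hne] <;> norm_num
  have hle : ((bmat w 1 - 1).submatrix em em).rank ≤ 2 := by
    rw [hfac, Matrix.submatrix_mul _ _ em id em Function.bijective_id]
    refine (Matrix.rank_mul_le_left _ _).trans ?_
    simpa using Matrix.rank_le_card_width ((K₀ * A).submatrix em id)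
  have hu : IsUnit ((-2 : F) • (1 : Matrix (Fin 2 × Fin 2) (Fin 2 × Fin 2) F)) := by
    rw [Matrix.isUnit_iff_isUnit_det, isUnit_iff_ne_zero, Matrix.det_smul, Matrix.det_one, mul_one]
    exact pow_ne_zero _ (neg_ne_zero.mpr h2)
  rw [hsub, Matrix.rank_of_isUnit _ hu] at hle
  simp at hle

theorem block_cases (h2 : (2 : F) ≠ 0) {g : Matrix (Fin 2) (Fin 2) F} (hd : g.det ^ 2 = 1)
    (hcub : g * g * g - g * g + g - 1 = 0) : g * g = 1 ∨ g * g = -1 := by
  have hfac : (g - 1) * (g * g + 1) = 0 := by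
    rw [← hcub]; noncomm_ring
  by_cases h : (g - 1).det = 0
  · left
    rw [Matrix.det_fin_two] at h hd
    simp only [Matrix.sub_apply, Matrix.one_apply_eq, Matrix.one_apply_ne (show (0 : Fin 2) ≠ 1 by decide),
      Matrix.one_apply_ne (show (1 : Fin 2) ≠ 0 by decide), sub_zero] at h
    have htr : g 0 0 + g 1 1 = 1 + (g 0 0 * g 1 1 - g 0 1 * g 1 0) := by linear_combination -h
    set dd := g 0 0 * g 1 1 - g 0 1 * g 1 0
    have hsq : g * g = (1 + dd) • g - dd • (1 : Matrix (Fin 2) (Fin 2) F) := by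
      ext i j
      fin_cases i <;> fin_cases j <;>
        simp [Matrix.mul_apply, Fin.sum_univ_two, Matrix.one_apply, dd]
      · linear_combination (g 0 0) * htr
      · linear_combination (g 0 1) * htr
      · linear_combination (g 1 0) * htr
      · linear_combination (g 1 1) * htr
    have hkey : (2 : F) • (g - 1) = 0 := by
      have e : (g - 1) * (g * g + 1) = (1 + dd ^ 2) • (g - 1) := by
        rw [hsq]
        simp only [Matrix.mul_add, Matrix.mul_sub, Matrix.sub_mul, Matrix.mul_smul, mul_one, one_mul, hsq]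
        module
      rw [hfac, hd, one_add_one_eq_two] at e
      exact e.symm
    have hg1 : g = 1 := sub_eq_zero.mp ((smul_eq_zero.mp hkey).resolve_left h2)
    rw [hg1, mul_one]
  · right
    have hu : IsUnit (g - 1) := (Matrix.isUnit_iff_isUnit_det _).mpr (isUnit_iff_ne_zero.mpr h)
    have h0 := hu.mul_left_cancel (hfac.trans (mul_zero _).symm)
    exact eq_neg_of_add_eq_zero_left h0

theorem conj_tdiag_monomial [DecidableEq F] (h2 : (2 : F) ≠ 0) {K : GL (Fin 2 × Fin m) F} {s : Fin m → Fin m}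
    (h : ∀ a, (K : Matrix (Fin 2 × Fin m) (Fin 2 × Fin m) F) * tdiag a =
      tdiag (s a) * (K : Matrix (Fin 2 × Fin m) (Fin 2 × Fin m) F)) :
    ∃ (g : Fin m → GL (Fin 2) F) (σ : Equiv.Perm (Fin m)), K = bmGL g σ := by
  classical
  set K₀ := ((K : GL (Fin 2 × Fin m) F) : Matrix (Fin 2 × Fin m) (Fin 2 × Fin m) F)
  have hz : ∀ a (e : Fin 2) (c : Fin m) (f : Fin 2) (d : Fin m),
      (d = a ↔ ¬ c = s a) → K₀ (e, c) (f, d) = 0 := by
    intro a e c f d hcd
    have h1 := congrFun (congrFun (h a) (e, c)) (f, d)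
    rw [tdiag, tdiag, Matrix.mul_diagonal, Matrix.diagonal_mul] at h1
    refine (mul_eq_zero.mp (?_ : (2 : F) * K₀ (e, c) (f, d) = 0)).resolve_left h2
    by_cases hc : c = s a
    · rw [if_neg (fun e => (hcd.mp e) hc), if_pos hc] at h1
      linear_combination h1
    · rw [if_pos (hcd.mpr hc), if_neg hc] at h1
      linear_combination -h1
  have hsinj : Function.Injective s := by
    intro a b hab
    by_contra hne
    refine K.det_ne_zero (Matrix.det_eq_zero_of_column_eq_zero ((0 : Fin 2), b) fun x => ?_)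
    obtain ⟨e, c⟩ := x
    by_cases hc : c = s b
    · exact hz a e c 0 b ⟨fun e' => absurd e'.symm hne, fun e' => absurd (hc.trans hab.symm) e'⟩
    · exact hz b e c 0 b ⟨fun _ => hc, fun _ => rfl⟩
  let σ : Equiv.Perm (Fin m) := Equiv.ofBijective s hsinj.bijective_of_finite
  let gm : Fin m → Matrix (Fin 2) (Fin 2) F := fun c => Matrix.of fun e f => K₀ (e, c) (f, σ.symm c)
  have hK : K₀ = bmat gm σ := by
    ext ⟨e, c⟩ ⟨f, d⟩
    rw [bmat_apply]
    by_cases hc : c = σ d
    · rw [if_pos hc]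
      simp only [gm, Matrix.of_apply, hc, Equiv.symm_apply_apply]
    · rw [if_neg hc]
      exact hz d e c f d ⟨fun _ => hc, fun _ => rfl⟩
  have hdet : ∀ c, (gm c).det ≠ 0 := by
    intro c hc
    apply K.det_ne_zero
    show K₀.det = 0
    rw [hK, det_bmat]
    exact Finset.prod_eq_zero (Finset.mem_univ c) hc
  exact ⟨fun c => GeneralLinearGroup.mkOfDetNeZero (gm c) (hdet c), σ, Units.ext hK⟩

theorem exists_transitive_sylow {k : ℕ} (hk : 1 ≤ k) :
    ∃ P : Sylow 2 (Equiv.Perm (Fin (2 ^ k))),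
      ∀ c d, ∃ π ∈ (P : Subgroup (Equiv.Perm (Fin (2 ^ k)))), π c = d := by
  have h2 : 2 ≤ 2 ^ k := Nat.le_self_pow (by omega) 2
  have hcyc : (finRotate (2 ^ k)).IsCycle := isCycle_finRotate_of_le h2
  have hsupp : (finRotate (2 ^ k)).support = Finset.univ := support_finRotate_of_le h2
  have hp : IsPGroup 2 (Subgroup.zpowers (finRotate (2 ^ k))) :=
    IsPGroup.of_card (n := k) (by rw [Nat.card_zpowers, hcyc.orderOf, hsupp, Finset.card_univ, Fintype.card_fin])
  obtain ⟨P, hP⟩ := hp.exists_le_sylow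
  refine ⟨P, fun c d => ?_⟩
  have hmove : ∀ x, finRotate (2 ^ k) x ≠ x := fun x =>
    Equiv.Perm.mem_support.mp (hsupp ▸ Finset.mem_univ x)
  obtain ⟨i, hi⟩ := hcyc.exists_zpow_eq (hmove c) (hmove d)
  exact ⟨_, hP (Subgroup.zpow_mem_zpowers _ i), hi⟩

theorem WreathSetting.invariant [Finite F] {k : ℕ} (hk : 1 ≤ k)
    {G : Subgroup (GL (Fin 2 × Fin (2 ^ k)) F)} {G₂ : Subgroup (GL (Fin 2) F)}
    (hG : WreathSetting G G₂) (D : TwoData G₂) (h2 : (2 : F) ≠ 0) : SylowOvergroupsInvariant 2 G := by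
  classical
  have : Fact (Nat.Prime 2) := ⟨Nat.prime_two⟩
  obtain ⟨P, hPtr⟩ := exists_transitive_sylow hk
  set W := bmGroup D.S (P : Subgroup (Equiv.Perm (Fin (2 ^ k))))
  set S₁ : Subgroup G := W.subgroupOf G
  have hS₁ : IsPGroup 2 S₁ := by
    intro x
    obtain ⟨l, hl⟩ := isPGroup_bmGroup D.isPGroup P.2 ⟨((x : G) : GL _ F), x.2⟩
    exact ⟨l, Subtype.ext (Subtype.ext (by simpa using congrArg Subtype.val hl))⟩
  suffices hself : ∀ x ∈ Subgroup.normalizer (S₁ : Set G), x ∈ S₁ by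
    obtain ⟨S, hS⟩ := exists_sylow_eq_of_pElements hS₁ (fun x hx _ => hself x hx)
    refine ⟨S, fun H hH x hx => ?_⟩
    rw [hS] at hx
    exact Subgroup.le_normalizer (hH (hS.ge (hself x hx)))
  intro kk hkk
  set K : GL (Fin 2 × Fin (2 ^ k)) F := ((kk : G) : GL (Fin 2 × Fin (2 ^ k)) F)
  obtain ⟨i, hi, j, hj, hid, hjd, hii, hjj, hij⟩ := D.quat
  have hone : ∀ c : Fin (2 ^ k), (1 : GL (Fin 2) F) ∈ G₂ := fun _ => one_mem G₂
  -- elements of the Sylow subgroup and their conjugates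
  have hconj : ∀ (g : Fin (2 ^ k) → GL (Fin 2) F) (π : Equiv.Perm (Fin (2 ^ k))), (∀ c, g c ∈ D.S) →
      π ∈ (P : Subgroup (Equiv.Perm (Fin (2 ^ k)))) → ∏ c, (g c : Matrix (Fin 2) (Fin 2) F).det = 1 →
      ∃ (g' : Fin (2 ^ k) → GL (Fin 2) F) (π' : Equiv.Perm (Fin (2 ^ k))), (∀ c, g' c ∈ D.S) ∧
        π' ∈ (P : Subgroup (Equiv.Perm (Fin (2 ^ k)))) ∧ K * bmGL g π * K⁻¹ = bmGL g' π' := by
    intro g π hg hπ hd
    have hmem := hG.mem g π (fun c => D.le (hg c)) hd
    obtain ⟨g', π', hg', hπ', he⟩ :=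
      (Subgroup.mem_normalizer_iff.mp hkk ⟨_, hmem⟩).mp ⟨g, π, hg, hπ, rfl⟩
    exact ⟨g', π', hg', hπ', he⟩
  have hdetupd : ∀ (a : Fin (2 ^ k)) (u : GL (Fin 2) F), (u : Matrix (Fin 2) (Fin 2) F).det = 1 →
      ∏ c, ((Function.update (fun _ : Fin (2 ^ k) => (1 : GL (Fin 2) F)) a u c : GL (Fin 2) F) :
        Matrix (Fin 2) (Fin 2) F).det = 1 := by
    intro a u hu
    refine Finset.prod_eq_one fun c _ => ?_
    rcases eq_or_ne c a with rfl | hc
    · rw [Function.update_self, hu]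
    · simp [Function.update_of_ne hc]
  have hupdS : ∀ (a : Fin (2 ^ k)) (u : GL (Fin 2) F), u ∈ D.S →
      ∀ c, Function.update (fun _ : Fin (2 ^ k) => (1 : GL (Fin 2) F)) a u c ∈ D.S := by
    intro a u hu c
    rcases eq_or_ne c a with rfl | hc
    · simpa using hu
    · simp [Function.update_of_ne hc, one_mem]
  have hneg : ((scal (Fin 2) (-1 : Fˣ) : GL (Fin 2) F) : Matrix (Fin 2) (Fin 2) F) = -1 := by
    rw [scal_val]
    ext i j
    fin_cases i <;> fin_cases j <;> simp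
  set N : GL (Fin 2) F := scal (Fin 2) (-1 : Fˣ)
  let blk : Fin (2 ^ k) → GL (Fin 2) F → GL (Fin 2 × Fin (2 ^ k)) F := fun a u =>
    bmGL (Function.update (fun _ => (1 : GL (Fin 2) F)) a u) 1
  have hblk_mul : ∀ a u v, blk a u * blk a v = blk a (u * v) := by
    intro a u v
    simp only [blk]
    rw [bmGL_mul, mul_one]
    congr 1
    funext c
    rcases eq_or_ne c a with rfl | hc
    · simp [Equiv.Perm.one_def]
    · simp [Equiv.Perm.one_def, Function.update_of_ne hc]
  have hblkN : ∀ a, ((blk a N : GL (Fin 2 × Fin (2 ^ k)) F) : Matrix (Fin 2 × Fin (2 ^ k)) (Fin 2 × Fin (2 ^ k)) F) = tdiag a := by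
    intro a
    rw [← bmat_update_neg a]
    simp only [blk, bmGL_val]
    congr 1
    funext c
    rcases eq_or_ne c a with rfl | hc
    · simp [hneg]
    · simp [Function.update_of_ne hc]
  -- an element of square the involution has trivial permutation part
  have hcub : ∀ (a : Fin (2 ^ k)) (u : GL (Fin 2) F), u * u = N →
      ((K * blk a u * K⁻¹ : GL (Fin 2 × Fin (2 ^ k)) F) : Matrix (Fin 2 × Fin (2 ^ k)) (Fin 2 × Fin (2 ^ k)) F) ^ 3 -
        ((K * blk a u * K⁻¹ : GL (Fin 2 × Fin (2 ^ k)) F) : Matrix (Fin 2 × Fin (2 ^ k)) (Fin 2 × Fin (2 ^ k)) F) ^ 2 +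
        ((K * blk a u * K⁻¹ : GL (Fin 2 × Fin (2 ^ k)) F) : Matrix (Fin 2 × Fin (2 ^ k)) (Fin 2 × Fin (2 ^ k)) F) - 1 = 0 := by
    intro a u hu
    set U := ((blk a u : GL (Fin 2 × Fin (2 ^ k)) F) : Matrix (Fin 2 × Fin (2 ^ k)) (Fin 2 × Fin (2 ^ k)) F)
    have hU : U * U * U - U * U + U - 1 = 0 := by
      set M := Function.update (fun _ : Fin (2 ^ k) => (1 : Matrix (Fin 2) (Fin 2) F)) a (u : Matrix (Fin 2) (Fin 2) F)
      have hUM : U = Matrix.blockDiagonal M := by
        ext ⟨e, c⟩ ⟨f, d⟩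
        simp only [U, blk, bmGL_val, bmat_apply, Matrix.blockDiagonal_apply, Equiv.Perm.one_apply, M]
        split_ifs with h
        · subst h
          rcases eq_or_ne c a with rfl | hc
          · simp
          · simp [Function.update_of_ne hc]
        · first | rfl | exact if_neg h | simp [h]
      rw [hUM, ← Matrix.blockDiagonal_one, ← Matrix.blockDiagonal_mul, ← Matrix.blockDiagonal_mul,
        ← Matrix.blockDiagonal_sub, ← Matrix.blockDiagonal_add, ← Matrix.blockDiagonal_sub]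
      refine (congrArg Matrix.blockDiagonal ?_).trans Matrix.blockDiagonal_zero
      funext c
      rcases eq_or_ne c a with rfl | hc
      · simp only [M, Pi.sub_apply, Pi.add_apply, Pi.one_apply, Pi.zero_apply, Function.update_self,
          ← Units.val_mul, hu]
        rw [Units.val_mul, hneg]
        simp
      · simp [M, Function.update_of_ne hc]
    have hKK : ((K⁻¹ : GL (Fin 2 × Fin (2 ^ k)) F) : Matrix (Fin 2 × Fin (2 ^ k)) (Fin 2 × Fin (2 ^ k)) F) *
        (K : Matrix (Fin 2 × Fin (2 ^ k)) (Fin 2 × Fin (2 ^ k)) F) = 1 := by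
      rw [← Units.val_mul, inv_mul_cancel, Units.val_one]
    simp only [Units.val_mul]
    set A := ((K : GL (Fin 2 × Fin (2 ^ k)) F) : Matrix (Fin 2 × Fin (2 ^ k)) (Fin 2 × Fin (2 ^ k)) F)
    set B := ((K⁻¹ : GL (Fin 2 × Fin (2 ^ k)) F) : Matrix (Fin 2 × Fin (2 ^ k)) (Fin 2 × Fin (2 ^ k)) F)
    have hAB : A * B = 1 := by rw [← Units.val_mul, mul_inv_cancel, Units.val_one]
    calc _ = A * (U * (B * A) * U * (B * A) * U - U * (B * A) * U + U - 1) * B + (A * B - 1) := by
          simp only [pow_succ, pow_zero, one_mul, mul_assoc, mul_sub, sub_mul, mul_add, add_mul, mul_one]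
          abel
      _ = 0 := by rw [hKK, hAB]; simp [hU]
  have hperm : ∀ (a : Fin (2 ^ k)) (u : GL (Fin 2) F), u * u = N → ∀ g π, π ∈ (P : Subgroup (Equiv.Perm (Fin (2 ^ k)))) →
      K * blk a u * K⁻¹ = bmGL g π → π = 1 := by
    intro a u hu g π hπP he
    have h3 := hcub a u hu
    rw [he, bmGL_val] at h3
    set M : Fin (2 ^ k) → Matrix (Fin 2) (Fin 2) F := fun c => (g c : Matrix (Fin 2) (Fin 2) F)
    simp only [pow_succ, pow_zero, one_mul, bmat_mul] at h3
    have hent : ∀ (c : Fin (2 ^ k)) (e f : Fin 2),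
        (if c = π (π (π c)) then (M c * M (π.symm c) * M ((π * π).symm c)) e f else 0) -
          (if c = π (π c) then (M c * M (π.symm c)) e f else 0) + (if c = π c then M c e f else 0) -
          (1 : Matrix (Fin 2) (Fin 2) F) e f = 0 := by
      intro c e f
      have := congrFun (congrFun h3 (e, c)) (f, c)
      simp only [Matrix.sub_apply, Matrix.add_apply, bmat_apply, Matrix.zero_apply, Equiv.Perm.mul_apply] at this
      have h1 : (1 : Matrix (Fin 2 × Fin (2 ^ k)) (Fin 2 × Fin (2 ^ k)) F) (e, c) (f, c) =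
          (1 : Matrix (Fin 2) (Fin 2) F) e f := by simp [Matrix.one_apply]
      rw [h1] at this
      exact this
    obtain ⟨l, hl⟩ := P.2 ⟨π, hπP⟩
    have hl' : π ^ 2 ^ l = 1 := by simpa using congrArg Subtype.val hl
    have h3c : ∀ c, π c ≠ c → π (π (π c)) ≠ c := by
      intro c hc h
      apply hc
      obtain ⟨x, y, hxy⟩ : IsCoprime (3 : ℤ) ((2 ^ l : ℕ) : ℤ) := by
        rw [Nat.cast_pow]
        exact IsCoprime.pow_right (Int.isCoprime_iff_gcd_eq_one.mpr (by decide))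
      have hstab : π ^ (3 : ℤ) ∈ MulAction.stabilizer (Equiv.Perm (Fin (2 ^ k))) c := by
        show (π ^ (3 : ℤ)) c = c
        rw [zpow_ofNat]
        simpa [pow_succ, Equiv.Perm.mul_apply] using h
      have hπ : π = (π ^ (3 : ℤ)) ^ x := by
        rw [← _root_.zpow_mul]
        conv_lhs => rw [← _root_.zpow_one π, ← hxy, _root_.zpow_add, mul_comm y, _root_.zpow_mul π _ y,
          zpow_natCast, hl', _root_.one_zpow, mul_one, mul_comm x]
      have := zpow_mem hstab x
      rw [← hπ] at this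
      exact this
    have hsq : ∀ c, π (π c) = c := by
      intro c
      by_contra hc
      have hc1 : π c ≠ c := fun e => hc (by rw [e, e])
      have := hent c 0 0
      rw [if_neg (Ne.symm (h3c c hc1)), if_neg (Ne.symm hc), if_neg (Ne.symm hc1)] at this
      simp at this
    have hw : ∀ c, π c ≠ c → M c * M (π.symm c) = -1 := by
      intro c hc
      ext e f
      have := hent c e f
      rw [if_neg (Ne.symm (h3c c hc)), if_pos (hsq c).symm, if_neg (Ne.symm hc)] at this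
      rw [Matrix.neg_apply]
      linear_combination -this
    refine Equiv.ext fun c => ?_
    by_contra hc
    rw [Equiv.Perm.one_apply] at hc
    have hc' : π (π c) ≠ π c := fun e => hc (π.injective e)
    have hz : (K : Matrix (Fin 2 × Fin (2 ^ k)) (Fin 2 × Fin (2 ^ k)) F) * tdiag a *
        ((K⁻¹ : GL (Fin 2 × Fin (2 ^ k)) F) : Matrix (Fin 2 × Fin (2 ^ k)) (Fin 2 × Fin (2 ^ k)) F) =
          bmat (fun c => M c * M (π.symm c)) 1 := by
      rw [← hblkN, ← hu, ← hblk_mul, ← Units.val_mul, ← Units.val_mul,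
        show K * (blk a u * blk a u) * K⁻¹ = (K * blk a u * K⁻¹) * (K * blk a u * K⁻¹) by group, he,
        bmGL_mul, show π * π = 1 from Equiv.ext hsq]
      simp [bmGL_val, M]
    exact hc (two_blocks_absurd h2 hz (hw c hc) (hw (π c) hc')).symm
  have hdetect : ∀ a : Fin (2 ^ k), ∃ b : Fin (2 ^ k),
      (K : Matrix (Fin 2 × Fin (2 ^ k)) (Fin 2 × Fin (2 ^ k)) F) * tdiag a =
        tdiag b * (K : Matrix (Fin 2 × Fin (2 ^ k)) (Fin 2 × Fin (2 ^ k)) F) := by
    intro a
    obtain ⟨g, π, hg, hπ, he⟩ := hconj _ 1 (hupdS a i hi) (one_mem _) (hdetupd a i hid)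
    obtain ⟨g', π', hg', hπ', he'⟩ := hconj _ 1 (hupdS a j hj) (one_mem _) (hdetupd a j hjd)
    obtain rfl := hperm a i hii g π hπ he
    obtain rfl := hperm a j hjj g' π' hπ' he'
    have hz : K * blk a N * K⁻¹ = bmGL (fun c => g c * g c) 1 := by
      rw [← hii, ← hblk_mul, show K * (blk a i * blk a i) * K⁻¹ = (K * blk a i * K⁻¹) * (K * blk a i * K⁻¹)
        by group, he, bmGL_mul, mul_one]
      simp [Equiv.Perm.one_def]
    have hrel : ∀ c, g c * g' c = (g c * g c) * (g' c * g c) := by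
      have e : (K * blk a i * K⁻¹) * (K * blk a j * K⁻¹) =
          (K * blk a N * K⁻¹) * ((K * blk a j * K⁻¹) * (K * blk a i * K⁻¹)) := by
        simp only [← mul_assoc, inv_mul_cancel_right]
        simp only [mul_assoc _ (blk a _) (blk a _), hblk_mul, hij, mul_assoc N]
      rw [hz, he, he', bmGL_mul, bmGL_mul, bmGL_mul, mul_one, mul_one] at e
      intro c
      simpa [Equiv.Perm.one_def] using congrFun (bmGL_injective e).1 c
    have hd : ∀ c, (g c : Matrix (Fin 2) (Fin 2) F).det ^ 2 = 1 := by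
      intro c
      have h1 := congrArg (fun u : GL (Fin 2) F => (u : Matrix (Fin 2) (Fin 2) F).det) (hrel c)
      simp only [Units.val_mul, Matrix.det_mul] at h1
      have hne := mul_ne_zero (g c).det_ne_zero (g' c).det_ne_zero
      exact mul_right_cancel₀ hne (by linear_combination -h1)
    have hcb : ∀ c, (g c : Matrix (Fin 2) (Fin 2) F) * g c * g c - (g c : Matrix (Fin 2) (Fin 2) F) * g c +
        (g c : Matrix (Fin 2) (Fin 2) F) - 1 = 0 := by
      intro c
      have h3 := hcub a i hii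
      rw [he, bmGL_val] at h3
      simp only [pow_succ, pow_zero, one_mul, bmat_mul, mul_one] at h3
      ext e f
      have := congrFun (congrFun h3 (e, c)) (f, c)
      simpa [bmat_apply, Matrix.one_apply, Equiv.Perm.one_def] using this
    have hz' : (K : Matrix (Fin 2 × Fin (2 ^ k)) (Fin 2 × Fin (2 ^ k)) F) * tdiag a *
        ((K⁻¹ : GL (Fin 2 × Fin (2 ^ k)) F) : Matrix (Fin 2 × Fin (2 ^ k)) (Fin 2 × Fin (2 ^ k)) F) =
          bmat (fun c => (g c : Matrix (Fin 2) (Fin 2) F) * (g c : Matrix (Fin 2) (Fin 2) F)) 1 := by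
      rw [← hblkN, ← Units.val_mul, ← Units.val_mul, hz]
      rfl
    obtain ⟨b, hb⟩ : ∃ b, (g b : Matrix (Fin 2) (Fin 2) F) * g b = -1 := by
      by_contra hno
      have hall : ∀ c, (g c : Matrix (Fin 2) (Fin 2) F) * g c = 1 := fun c =>
        (block_cases h2 (hd c) (hcb c)).resolve_right fun e => hno ⟨c, e⟩
      rw [funext hall, bmat_one, ← hblkN, ← Units.val_mul, ← Units.val_mul, ← Units.val_one, Units.val_inj,
        conj_eq_one_iff] at hz'
      have h1 := congrArg (fun u : GL (Fin 2 × Fin (2 ^ k)) F =>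
        (u : Matrix (Fin 2 × Fin (2 ^ k)) (Fin 2 × Fin (2 ^ k)) F) (0, a) (0, a)) hz'
      simp only [hblkN] at h1
      simp [tdiag] at h1
      exact h2 (by linear_combination -h1)
    refine ⟨b, ?_⟩
    have hw : (fun c => (g c : Matrix (Fin 2) (Fin 2) F) * (g c : Matrix (Fin 2) (Fin 2) F)) =
        Function.update (fun _ => (1 : Matrix (Fin 2) (Fin 2) F)) b (-1) := by
      funext c
      rcases eq_or_ne c b with rfl | hc
      · simp [hb]
      · rw [Function.update_of_ne hc]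
        exact (block_cases h2 (hd c) (hcb c)).resolve_right fun e =>
          hc (two_blocks_absurd h2 hz' (c := c) (d := b) e hb)
    rw [hw, bmat_update_neg] at hz'
    rw [← hz', mul_assoc _ _ (K : Matrix (Fin 2 × Fin (2 ^ k)) (Fin 2 × Fin (2 ^ k)) F), ← Units.val_mul,
      inv_mul_cancel, Units.val_one, mul_one]
  choose s hs using hdetect
  obtain ⟨g, σ, hgσ⟩ := conj_tdiag_monomial h2 hs
  -- the permutation part
  have hσ : σ ∈ (P : Subgroup (Equiv.Perm (Fin (2 ^ k)))) := by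
    rw [← CfsgLib.SylowAlt.perm_sylow_two_normalizer P]
    refine mem_normalizer_of_forall fun π hπ => ?_
    obtain ⟨g', π', -, hπ', he⟩ := hconj (fun _ => 1) π (fun _ => one_mem _) hπ (by simp)
    rw [hgσ, bmGL_inv, bmGL_mul, bmGL_mul] at he
    rw [(bmGL_injective he).2]
    exact hπ'
  have hKmem : K ∈ G := kk.2
  have hgG : ∀ c, g c ∈ G₂ := hG.blocks g σ (hgσ ▸ hKmem)
  set T := bmGL g 1
  have hKT : K = T * bmGL (fun _ => 1) σ := by
    rw [hgσ, bmGL_mul, one_mul]; simp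
  have hTconj : ∀ (g' : Fin (2 ^ k) → GL (Fin 2) F) (π : Equiv.Perm (Fin (2 ^ k))), (∀ c, g' c ∈ D.S) →
      π ∈ (P : Subgroup (Equiv.Perm (Fin (2 ^ k)))) → ∏ c, (g' c : Matrix (Fin 2) (Fin 2) F).det = 1 →
      ∃ (g'' : Fin (2 ^ k) → GL (Fin 2) F) (π'' : Equiv.Perm (Fin (2 ^ k))), (∀ c, g'' c ∈ D.S) ∧
        T * bmGL g' π * T⁻¹ = bmGL g'' π'' := by
    intro g' π hg' hπ hd
    set R : GL (Fin 2 × Fin (2 ^ k)) F := bmGL (fun _ => 1) σ
    have h1 : R⁻¹ * bmGL g' π * R = bmGL (fun c => g' (σ c)) (σ⁻¹ * π * σ) := by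
      simp only [R, bmGL_inv, bmGL_mul]
      congr 1
      funext c
      simp [Equiv.Perm.inv_def]
    obtain ⟨g'', π'', hg'', -, he⟩ := hconj (fun c => g' (σ c)) (σ⁻¹ * π * σ) (fun c => hg' _)
      (mul_mem (mul_mem (inv_mem hσ) hπ) hσ) (by rw [Equiv.prod_comp σ fun c => (g' c : Matrix (Fin 2) (Fin 2) F).det]; exact hd)
    refine ⟨g'', π'', hg'', ?_⟩
    rw [← he, ← h1, hKT]
    group
  obtain ⟨c₀⟩ : Nonempty (Fin (2 ^ k)) := ⟨⟨0, by positivity⟩⟩
  have hdiff : ∀ c, g c * (g c₀)⁻¹ ∈ D.S := by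
    intro c
    obtain ⟨π, hπ, hπc⟩ := hPtr c₀ c
    obtain ⟨g'', π'', hg'', he⟩ := hTconj (fun _ => 1) π (fun _ => one_mem _) hπ (by simp)
    simp only [T, bmGL_inv, bmGL_mul, one_mul, mul_one] at he
    have := congrFun (bmGL_injective he).1 c
    have hsymm : π.symm c = c₀ := by rw [← hπc]; simp
    simp [hsymm, Equiv.Perm.one_def] at this
    rw [this]
    exact hg'' c
  obtain ⟨r, hr⟩ := D.norm (g c₀) (hgG c₀) (by
    intro u hu
    have : Nontrivial (Fin (2 ^ k)) := Fin.nontrivial_iff_two_le.mpr (Nat.le_self_pow (by omega) 2)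
    obtain ⟨d, hd⟩ := exists_ne c₀
    let g' : Fin (2 ^ k) → GL (Fin 2) F := Function.update (Function.update (fun _ => 1) d u⁻¹) c₀ u
    have hg' : ∀ c, g' c ∈ D.S := by
      intro c
      rcases eq_or_ne c c₀ with rfl | hc
      · simp [g', hu]
      · simp only [g', Function.update_of_ne hc]
        exact hupdS d u⁻¹ (inv_mem hu) c
    have hd1 : ∏ c, (g' c : Matrix (Fin 2) (Fin 2) F).det = 1 := by
      rw [← Finset.mul_prod_erase _ _ (Finset.mem_univ c₀),
        ← Finset.mul_prod_erase _ _ (Finset.mem_erase.mpr ⟨hd, Finset.mem_univ d⟩),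
        Finset.prod_eq_one fun c hc => ?_]
      · simp only [g', Function.update_self, Function.update_of_ne hd, mul_one]
        rw [← Matrix.det_mul, ← Units.val_mul, mul_inv_cancel, Units.val_one, Matrix.det_one]
      · rw [Finset.mem_erase, Finset.mem_erase] at hc
        simp [g', Function.update_of_ne hc.1, Function.update_of_ne hc.2.1]
    obtain ⟨g'', π'', hg'', he⟩ := hTconj g' 1 hg' (one_mem _) hd1
    simp only [T, bmGL_inv, bmGL_mul, one_mul, mul_one] at he
    have := congrFun (bmGL_injective he).1 c₀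
    simp [g', Equiv.Perm.one_def] at this
    rw [this]
    exact hg'' c₀)
  have hrG : scal (Fin 2) r ∈ G₂ := by
    have : scal (Fin 2) r = (g c₀ * (scal (Fin 2) r)⁻¹)⁻¹ * g c₀ := by group
    rw [this]
    exact mul_mem (inv_mem (D.le hr)) (hgG c₀)
  have hsc : ∀ c, g c * (scal (Fin 2) r)⁻¹ ∈ D.S := by
    intro c
    have : g c * (scal (Fin 2) r)⁻¹ = (g c * (g c₀)⁻¹) * (g c₀ * (scal (Fin 2) r)⁻¹) := by group
    rw [this]
    exact mul_mem (hdiff c) hr
  -- the scalar is a 2-element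
  obtain ⟨l, hl⟩ := IsPGroup.iff_card.mp D.isPGroup
  have hpow : ∀ u ∈ D.S, (u : Matrix (Fin 2) (Fin 2) F).det ^ 2 ^ l = 1 := by
    intro u hu
    have h := pow_card_eq_one' (x := (⟨u, hu⟩ : D.S))
    rw [hl] at h
    rw [← Matrix.det_pow, ← Units.val_pow_eq_pow_val, show u ^ 2 ^ l = 1 by simpa using congrArg Subtype.val h,
      Units.val_one, Matrix.det_one]
  have hdetK : ∏ c, (g c : Matrix (Fin 2) (Fin 2) F).det = 1 := by
    rw [← det_bmat _ σ, ← bmGL_val, ← hgσ]
    exact hG.det_one K hKmem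
  have hr2 : ∃ e : ℕ, r ^ 2 ^ e = 1 := by
    refine ⟨k + 1 + l, Units.ext ?_⟩
    have h := congrArg (· ^ 2 ^ l) hdetK
    simp only [one_pow, ← Finset.prod_pow] at h
    have hc : ∀ c, (g c : Matrix (Fin 2) (Fin 2) F).det ^ 2 ^ l = ((r : F) ^ 2) ^ 2 ^ l := by
      intro c
      have e : g c = (g c * (scal (Fin 2) r)⁻¹) * scal (Fin 2) r := by group
      rw [e, Units.val_mul, Matrix.det_mul, mul_pow, hpow _ (hsc c), one_mul, scal_val, Matrix.det_diagonal]
      simp [sq]
    rw [Finset.prod_congr rfl (fun c _ => hc c), Finset.prod_const, Finset.card_univ, Fintype.card_fin,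
      ← pow_mul, ← pow_mul] at h
    rw [Units.val_pow_eq_pow_val, Units.val_one, ← h]
    congr 1
    rw [pow_add, pow_succ]
    ring
  have hgS : ∀ c, g c ∈ D.S := by
    intro c
    have e : g c = (g c * (scal (Fin 2) r)⁻¹) * scal (Fin 2) r := by group
    rw [e]
    exact mul_mem (hsc c) (D.central r hrG hr2)
  exact ⟨g, σ, hgS, hσ, hgσ⟩

end CfsgLib.Pronormal
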