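import Cfsg.Agent.Pronormal.OddCore
import Cfsg.Agent.Unitary.Two
import Cfsg.Agent.Unitary.ConjugacyGL
import Mathlib.LinearAlgebra.Matrix.ProjectiveSpecialLinearGroup

/-!
The special linear and unitary groups of two-power degree at least four in odd characteristic.
-/

set_option autoImplicit false

namespace CfsgLib.Pronormal

open Matrix CfsgLib.Unitary CfsgLib.Forms
open scoped MatrixGroups

theorem qd_or_wreathed_of_equiv {A B : Type*} [Group A] [Group B] (e : A ≃* B)
    (h : Cfsg.IsQuasiDihedral A ∨ Cfsg.IsWreathed A) : Cfsg.IsQuasiDihedral B ∨ Cfsg.IsWreathed B := by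
  rcases h with ⟨n, hn, hc, x, y, hx, hy, hxy⟩ | ⟨n, hn, hc, x, y, z, hx, hxy, hi, hz, hzx⟩
  · refine Or.inl ⟨n, hn, (Nat.card_congr e.symm.toEquiv).trans hc, e x, e y, ?_, ?_, ?_⟩
    · rw [e.orderOf_eq, hx]
    · rw [e.orderOf_eq, hy]
    · rw [← map_inv, ← map_mul, ← map_mul, hxy, map_pow]
  · refine Or.inr ⟨n, hn, (Nat.card_congr e.symm.toEquiv).trans hc, e x, e y, e z, ?_, ?_, ?_, ?_, ?_⟩
    · rw [e.orderOf_eq, hx]
    · rw [← map_mul, hxy, map_mul]
    · rw [Subgroup.eq_bot_iff_forall]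
      intro b hb
      obtain ⟨⟨i, hi'⟩, ⟨j, hj'⟩⟩ := hb
      have hij : x ^ i = y ^ j := e.injective (by rw [map_zpow, map_zpow]; exact hi'.trans hj'.symm)
      have h1 : x ^ i = 1 := (Subgroup.eq_bot_iff_forall _).mp hi _
        ⟨Subgroup.zpow_mem_zpowers _ _, hij ▸ Subgroup.zpow_mem_zpowers _ _⟩
      rw [← hi']
      show e x ^ i = 1
      rw [← map_zpow, h1, map_one]
    · rw [e.orderOf_eq, hz]
    · rw [← map_inv, ← map_mul, ← map_mul, hzx]

variable {F : Type*} [Field F]

theorem two_ne_zero_of_odd_card [Finite F] (hodd : Odd (Nat.card F)) : (2 : F) ≠ 0 := by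
  intro h
  have : Fintype F := Fintype.ofFinite F
  have : CharP F 2 := CharTwo.of_one_ne_zero_of_two_eq_zero one_ne_zero h
  have h2 := (FiniteField.even_card_iff_char_two (F := F)).mp (ringChar.eq F 2)
  rw [Nat.card_eq_fintype_card] at hodd
  exact Nat.not_even_iff_odd.mpr hodd (Nat.even_iff.mpr h2)

/-- Reindexing of invertible matrices. -/
noncomputable def reindexGL {ν μ : Type*} [Fintype ν] [DecidableEq ν] [Fintype μ] [DecidableEq μ]
    (e : ν ≃ μ) : GL ν F →* GL μ F :=
  Units.map (Matrix.reindexAlgEquiv F F e : Matrix ν ν F →* Matrix μ μ F)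

theorem reindexGL_val {ν μ : Type*} [Fintype ν] [DecidableEq ν] [Fintype μ] [DecidableEq μ]
    (e : ν ≃ μ) (g : GL ν F) :
    ((reindexGL e g : GL μ F) : Matrix μ μ F) = Matrix.reindex e e (g : Matrix ν ν F) := rfl

theorem reindexGL_injective {ν μ : Type*} [Fintype ν] [DecidableEq ν] [Fintype μ] [DecidableEq μ]
    (e : ν ≃ μ) : Function.Injective (reindexGL (F := F) e) := fun a b h =>
  Units.ext ((Matrix.reindexAlgEquiv F F e).injective (congrArg Units.val h))

theorem exists_twoData_linear [Finite F] (hodd : Odd (Nat.card F)) :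
    Nonempty (TwoData (⊤ : Subgroup (GL (Fin 2) F))) := by
  have : Fintype F := Fintype.ofFinite F
  refine exists_twoData hodd ⊤ (fun P => ?_) (K := F) hodd Matrix.SpecialLinearGroup.toGL
    (fun a b h => Subtype.ext (congrArg Units.val h)) (fun _ => Subgroup.mem_top _) fun x => x.2
  let P' := P.mapSurjective (f := (Subgroup.topEquiv : (⊤ : Subgroup (GL (Fin 2) F)) ≃* _).toMonoidHom)
    Subgroup.topEquiv.surjective
  have e : (P' : Subgroup (GL (Fin 2) F)) ≃* (P : Subgroup (⊤ : Subgroup (GL (Fin 2) F))) :=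
    ((P : Subgroup (⊤ : Subgroup (GL (Fin 2) F))).equivMapOfInjective _ Subgroup.topEquiv.injective).symm
  refine qd_or_wreathed_of_equiv e ?_
  rcases (show Fintype.card F % 4 = 1 ∨ Fintype.card F % 4 = 3 by
    rw [Nat.card_eq_fintype_card] at hodd; have := Nat.odd_iff.mp hodd; omega) with h | h
  · exact Or.inr (CfsgLib.Linear.TwoSylow.sylow_GL_two_wreathed h P')
  · exact Or.inl (CfsgLib.Linear.TwoSylow.sylow_GL_two_quasiDihedral h P')

theorem exists_twoData_unitary [Finite F] {q : ℕ} (hF : Nat.card F = q ^ 2) (hodd : Odd q) :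
    Nonempty (TwoData (Cfsg.GU 2 F q)) := by
  have : Fintype F := Fintype.ofFinite F
  obtain ⟨p, d, -, hp, hd⟩ := exists_charP_pow hF
  have : Fact p.Prime := ⟨hp⟩
  have hd0 : d ≠ 0 := by
    intro h
    have := two_le_q hF
    rw [hd, h, pow_zero] at this
    omega
  set K := GaloisField p d
  have hK : Nat.card K = q := by rw [GaloisField.card p d hd0, hd]
  obtain ⟨e⟩ := su_two_iso hF hK
  have hFodd : Odd (Nat.card F) := by rw [hF]; exact hodd.pow
  refine exists_twoData hFodd (Cfsg.GU 2 F q) (fun P => ?_) (K := K) (by rw [hK]; exact hodd)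
    ((Matrix.SpecialLinearGroup.toGL.comp (Cfsg.SU 2 F q).subtype).comp e.symm.toMonoidHom)
    (fun a b h => e.symm.injective (Subtype.ext (Subtype.ext (congrArg Units.val h))))
    (fun x => (e.symm x).2) fun x => (e.symm x).1.2
  rcases (show q % 4 = 3 ∨ q % 4 = 1 by have := Nat.odd_iff.mp hodd; omega) with h | h
  · exact Or.inr (CfsgLib.Linear.TwoSylow.sylow_GU_two_wreathed hF h P)
  · exact Or.inl (CfsgLib.Linear.TwoSylow.sylow_GU_two_quasiDihedral hF h P)

theorem adj_bmat {m : ℕ} (φ : F →+* F) (g : Fin m → Matrix (Fin 2) (Fin 2) F) (π : Equiv.Perm (Fin m)) :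
    adj φ (bmat g π) = bmat (fun c => adj φ (g (π c))) π⁻¹ := by
  ext ⟨a, c⟩ ⟨b, d⟩
  rw [bmat_apply]
  change φ (bmat g π (b, d) (a, c)) = _
  rw [bmat_apply, apply_ite φ, map_zero]
  by_cases h : d = π c
  · subst h
    rw [if_pos rfl, if_pos (by simp)]
    rfl
  · rw [if_neg h, if_neg fun e => h (by rw [e]; simp)]

/-- The determinant-one isometry group of the standard Hermitian form in the block indexing. -/
def blockSU (m : ℕ) (φ : F →+* F) : Subgroup (GL (Fin 2 × Fin m) F) where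
  carrier := {g | (g : Matrix (Fin 2 × Fin m) (Fin 2 × Fin m) F).det = 1 ∧
    adj φ (g : Matrix (Fin 2 × Fin m) (Fin 2 × Fin m) F) * (g : Matrix (Fin 2 × Fin m) (Fin 2 × Fin m) F) = 1}
  one_mem' := ⟨by simp, by simp [adj_one]⟩
  mul_mem' {a b} ha hb := ⟨by simp [ha.1, hb.1], by
    rw [Units.val_mul, adj_mul]
    calc _ = adj φ (b : Matrix (Fin 2 × Fin m) (Fin 2 × Fin m) F) *
          (adj φ (a : Matrix (Fin 2 × Fin m) (Fin 2 × Fin m) F) * (a : Matrix (Fin 2 × Fin m) (Fin 2 × Fin m) F)) *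
          (b : Matrix (Fin 2 × Fin m) (Fin 2 × Fin m) F) := by simp only [mul_assoc]
      _ = 1 := by rw [ha.2, mul_one, hb.2]⟩
  inv_mem' {a} ha := by
    refine ⟨?_, ?_⟩
    · have h : (((a⁻¹ : GL (Fin 2 × Fin m) F) : Matrix (Fin 2 × Fin m) (Fin 2 × Fin m) F) *
          (a : Matrix (Fin 2 × Fin m) (Fin 2 × Fin m) F)).det = 1 := by
        rw [← Units.val_mul, inv_mul_cancel, Units.val_one, Matrix.det_one]
      rwa [Matrix.det_mul, ha.1, mul_one] at h
    · set A := ((a : GL (Fin 2 × Fin m) F) : Matrix (Fin 2 × Fin m) (Fin 2 × Fin m) F)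
      set B := ((a⁻¹ : GL (Fin 2 × Fin m) F) : Matrix (Fin 2 × Fin m) (Fin 2 × Fin m) F)
      have hAB : A * B = 1 := by rw [← Units.val_mul, mul_inv_cancel, Units.val_one]
      calc adj φ B * B = adj φ B * (adj φ A * A) * B := by rw [ha.2, mul_one]
        _ = adj φ (A * B) * (A * B) := by rw [adj_mul]; simp only [mul_assoc]
        _ = 1 := by rw [hAB, adj_one, one_mul]

variable [Finite F]

omit [Finite F] in
theorem wreathSetting_linear (m : ℕ) :
    WreathSetting (Matrix.SpecialLinearGroup.toGL (n := Fin 2 × Fin m) (R := F)).range ⊤ where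
  det_one := by rintro _ ⟨s, rfl⟩; exact s.2
  mem g π _ hd := ⟨⟨_, (det_bmat (fun c => (g c : Matrix (Fin 2) (Fin 2) F)) π).trans hd⟩, Units.ext rfl⟩
  blocks _ _ _ _ := Subgroup.mem_top _

theorem wreathSetting_unitary {q : ℕ} (hF : Nat.card F = q ^ 2) (m : ℕ) :
    WreathSetting (blockSU m (frobQ hF)) (Cfsg.GU 2 F q) where
  det_one _ hg := hg.1
  mem g π hg hd := by
    refine ⟨by rw [bmGL_val, det_bmat]; exact hd, ?_⟩
    rw [bmGL_val, adj_bmat, bmat_mul, inv_mul_cancel, ← bmat_one]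
    congr 1
    funext c
    rw [show (π⁻¹ : Equiv.Perm (Fin m)).symm c = π c from rfl]
    exact (mem_GU_iff_adj hF).mp (hg _)
  blocks g π hg c := by
    have h := hg.2
    rw [bmGL_val, adj_bmat, bmat_mul, inv_mul_cancel, ← bmat_one] at h
    have := congrFun (bmat_injective (fun _ => one_ne_zero) h.symm).1 (π.symm c)
    rw [show (π⁻¹ : Equiv.Perm (Fin m)).symm (π.symm c) = π (π.symm c) from rfl,
      Equiv.apply_symm_apply] at this
    exact (mem_GU_iff_adj hF).mpr this.symm

theorem exists_index_equiv {w : ℕ} (hw : 2 ≤ w) :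
    Nonempty (Fin (2 ^ w) ≃ Fin 2 × Fin (2 ^ (w - 1))) :=
  ⟨Fintype.equivOfCardEq (by
    simp only [Fintype.card_prod, Fintype.card_fin, ← pow_succ', Nat.sub_add_cancel (show 1 ≤ w by omega)])⟩

theorem psl_invariant_odd (hodd : Odd (Nat.card F)) {w : ℕ} (hw : 2 ≤ w) :
    SylowOvergroupsInvariant 2 (Matrix.ProjectiveSpecialLinearGroup (Fin (2 ^ w)) F) := by
  have : Fact (Nat.Prime 2) := ⟨Nat.prime_two⟩
  obtain ⟨D⟩ := exists_twoData_linear hodd
  obtain ⟨e⟩ := exists_index_equiv hw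
  let f : Matrix.SpecialLinearGroup (Fin (2 ^ w)) F →* GL (Fin 2 × Fin (2 ^ (w - 1))) F :=
    (reindexGL e).comp Matrix.SpecialLinearGroup.toGL
  have hf : Function.Injective f := fun a b h =>
    Subtype.ext (congrArg Units.val (reindexGL_injective e h))
  have hrange : f.range = (Matrix.SpecialLinearGroup.toGL (n := Fin 2 × Fin (2 ^ (w - 1))) (R := F)).range := by
    ext g
    constructor
    · rintro ⟨x, rfl⟩
      exact ⟨⟨Matrix.reindex e e x.1, by rw [Matrix.det_reindex_self]; exact x.2⟩, Units.ext rfl⟩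
    · rintro ⟨s, rfl⟩
      refine ⟨⟨Matrix.reindex e.symm e.symm s.1, by rw [Matrix.det_reindex_self]; exact s.2⟩, Units.ext ?_⟩
      change Matrix.reindex e e (Matrix.reindex e.symm e.symm s.1) = s.1
      simp
  have hinv : SylowOvergroupsInvariant 2 f.range := hrange ▸
    (wreathSetting_linear _).invariant (by omega) D (two_ne_zero_of_odd_card hodd)
  exact invariant_of_surjective ((QuotientGroup.mk' _).comp (MonoidHom.ofInjective hf).symm.toMonoidHom)
    ((QuotientGroup.mk'_surjective _).comp (MonoidHom.ofInjective hf).symm.surjective) hinv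

omit [Finite F] in
theorem adj_reindex {ν μ : Type*} [Fintype ν] [DecidableEq ν] [Fintype μ] [DecidableEq μ]
    (e : ν ≃ μ) (φ : F →+* F) (A : Matrix ν ν F) :
    adj φ (Matrix.reindex e e A) = Matrix.reindex e e (adj φ A) := rfl

theorem psu_invariant_odd {q : ℕ} (hF : Nat.card F = q ^ 2) (hodd : Odd q) {w : ℕ} (hw : 2 ≤ w) :
    SylowOvergroupsInvariant 2 (Cfsg.PSU (2 ^ w) F q) := by
  have : Fact (Nat.Prime 2) := ⟨Nat.prime_two⟩
  obtain ⟨D⟩ := exists_twoData_unitary hF hodd
  obtain ⟨e⟩ := exists_index_equiv hw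
  let f : Cfsg.SU (2 ^ w) F q →* GL (Fin 2 × Fin (2 ^ (w - 1))) F :=
    (reindexGL e).comp (Matrix.SpecialLinearGroup.toGL.comp (Cfsg.SU (2 ^ w) F q).subtype)
  have hf : Function.Injective f := fun a b h =>
    Subtype.ext (Subtype.ext (congrArg Units.val (reindexGL_injective e h)))
  have hrange : f.range = blockSU (2 ^ (w - 1)) (frobQ hF) := by
    ext g
    constructor
    · rintro ⟨x, rfl⟩
      have hx := (mem_GU_iff_adj hF).mp (show x.1.toGL ∈ Cfsg.GU (2 ^ w) F q from x.2)
      refine ⟨?_, ?_⟩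
      · change (Matrix.reindex e e x.1.1).det = 1
        rw [Matrix.det_reindex_self]; exact x.1.2
      · change adj (frobQ hF) (Matrix.reindex e e x.1.1) * Matrix.reindex e e x.1.1 = 1
        rw [adj_reindex, ← Matrix.reindexAlgEquiv_apply F F, ← Matrix.reindexAlgEquiv_apply F F, ← map_mul]
        exact (congrArg _ hx).trans (map_one _)
    · rintro ⟨hd, hu⟩
      let M : Matrix (Fin (2 ^ w)) (Fin (2 ^ w)) F :=
        Matrix.reindex e.symm e.symm (g : Matrix (Fin 2 × Fin (2 ^ (w - 1))) (Fin 2 × Fin (2 ^ (w - 1))) F)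
      have hM : M.det = 1 := by simp only [M, Matrix.det_reindex_self, hd]
      let s : Matrix.SpecialLinearGroup (Fin (2 ^ w)) F := ⟨M, hM⟩
      have hs : s.toGL ∈ Cfsg.GU (2 ^ w) F q := by
        rw [mem_GU_iff_adj hF]
        change adj (frobQ hF) M * M = 1
        simp only [M]
        rw [adj_reindex, ← Matrix.reindexAlgEquiv_apply F F, ← Matrix.reindexAlgEquiv_apply F F, ← map_mul,
          hu, map_one]
      refine ⟨⟨s, hs⟩, Units.ext ?_⟩
      change Matrix.reindex e e M = _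
      simp [M]
  have hinv : SylowOvergroupsInvariant 2 f.range := hrange ▸
    (wreathSetting_unitary hF _).invariant (by omega) D (two_ne_zero_of_odd_card (by rw [hF]; exact hodd.pow))
  exact invariant_of_surjective ((QuotientGroup.mk' _).comp (MonoidHom.ofInjective hf).symm.toMonoidHom)
    ((QuotientGroup.mk'_surjective _).comp (MonoidHom.ofInjective hf).symm.surjective) hinv

end CfsgLib.Pronormal
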