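import Cfsg.Agent.Pronormal.Criterion
import Cfsg.Agent.Classical.SylowTwoSL
import Cfsg.Agent.Classical.SylowTwoDim
import Cfsg.Agent.Classical.PSLTwoSub

/-!
Odd-index subgroups of `PSL_2(q)`, `q` odd.
-/

set_option autoImplicit false

namespace CfsgLib.Pronormal

open Matrix
open scoped MatrixGroups

variable {G : Type*} [Group G] [Finite G]

/-- A refinement of the criterion: it suffices to treat conjugation by elements normalising a Sylow subgroup. -/
theorem isPronormal_of_forall_normalizer {p : ℕ} [Fact p.Prime] (P : Sylow p G) {H : Subgroup G}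
    (hP : (P : Subgroup G) ≤ H)
    (h : ∀ n ∈ Subgroup.normalizer ((P : Subgroup G) : Set G),
      ∃ y ∈ H ⊔ H.map (MulAut.conj n).toMonoidHom,
        H.map (MulAut.conj n).toMonoidHom = H.map (MulAut.conj y).toMonoidHom) :
    Cfsg.IsPronormal H := by
  intro g
  set K := H ⊔ H.map (MulAut.conj g).toMonoidHom
  have h1 : (P : Subgroup G) ≤ K := hP.trans le_sup_left
  have h2 : ((g • P : Sylow p G) : Subgroup G) ≤ K := by
    refine le_trans ?_ le_sup_right
    rw [Sylow.coe_subgroup_smul, Subgroup.pointwise_smul_def]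
    exact Subgroup.map_mono hP
  obtain ⟨⟨x, hxK⟩, hx⟩ := MulAction.exists_smul_eq K (P.subtype h1) ((g • P).subtype h2)
  rw [Sylow.smul_subtype h1 ⟨x, hxK⟩] at hx
  have hx' : g • P = x • P := (Sylow.subtype_injective hx).symm
  have hn : x⁻¹ * g ∈ Subgroup.normalizer ((P : Subgroup G) : Set G) :=
    Sylow.smul_eq_iff_mem_normalizer.mp (by rw [mul_smul, hx', inv_smul_smul])
  obtain ⟨y, hy, he⟩ := h _ hn
  have hsub : H ⊔ H.map (MulAut.conj (x⁻¹ * g)).toMonoidHom ≤ K := by
    refine sup_le le_sup_left ?_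
    rintro _ ⟨z, hz, rfl⟩
    have hgz : g * z * g⁻¹ ∈ K := Subgroup.mem_sup_right ⟨z, hz, rfl⟩
    simpa [mul_assoc] using K.mul_mem (K.mul_mem (K.inv_mem hxK) hgz) hxK
  refine ⟨x * y, K.mul_mem hxK (hsub hy), ?_⟩
  have hc : ∀ a b : G, H.map (MulAut.conj (a * b)).toMonoidHom =
      (H.map (MulAut.conj b).toMonoidHom).map (MulAut.conj a).toMonoidHom := by
    intro a b
    rw [Subgroup.map_map]
    congr 1
    ext z
    simp
  calc H.map (MulAut.conj g).toMonoidHom = H.map (MulAut.conj (x * (x⁻¹ * g))).toMonoidHom := by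
        rw [mul_inv_cancel_left]
    _ = _ := by rw [hc, hc x y, he]

theorem exists_normalizer_lift {p : ℕ} [Fact p.Prime] {Gq : Type*} [Group Gq] (f : G →* Gq)
    (hf : Function.Surjective f) (S : Sylow p G) (hker : f.ker ≤ (S : Subgroup G)) {x : Gq}
    (hx : x ∈ Subgroup.normalizer (((S.mapSurjective hf : Sylow p Gq) : Subgroup Gq) : Set Gq)) :
    ∃ y ∈ Subgroup.normalizer ((S : Subgroup G) : Set G), f y = x := by
  obtain ⟨y, rfl⟩ := hf x
  refine ⟨y, Subgroup.mem_normalizer_iff.mpr fun s => ?_, rfl⟩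
  have key := Subgroup.mem_normalizer_iff.mp hx (f s)
  have hiff : ∀ t, f t ∈ ((S.mapSurjective hf : Sylow p Gq) : Subgroup Gq) ↔ t ∈ (S : Subgroup G) := by
    intro t
    rw [Sylow.coe_mapSurjective]
    refine ⟨?_, fun h => ⟨t, h, rfl⟩⟩
    rintro ⟨u, hu, he⟩
    have h1 : t * u⁻¹ ∈ (S : Subgroup G) := hker (by simp [MonoidHom.mem_ker, he])
    simpa using mul_mem h1 hu
  rw [← map_inv, ← map_mul, ← map_mul, hiff, hiff] at key
  exact key

section PSL

open CfsgLib.SL2C CfsgLib.Linear.PSLTwo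

variable {F : Type*} [Field F] [Fintype F]

theorem sylow_ti_psl {p : ℕ} [Fact p.Prime] [CharP F p]
    (hcen' : Subgroup.center (Matrix.ProjectiveSpecialLinearGroup (Fin 2) F) = ⊥)
    (Q Q' : Sylow p (Matrix.ProjectiveSpecialLinearGroup (Fin 2) F))
    {x : Matrix.ProjectiveSpecialLinearGroup (Fin 2) F} (hx : x ∈ (Q : Subgroup _)) (hx' : x ∈ (Q' : Subgroup _))
    (hx1 : x ≠ 1) : Q = Q' := by
  have hπ : Function.Surjective (QuotientGroup.mk' (Subgroup.center (SL F))) := QuotientGroup.mk'_surjective _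
  obtain ⟨R, rfl⟩ := Sylow.mapSurjective_surjective hπ p Q
  obtain ⟨R', rfl⟩ := Sylow.mapSurjective_surjective hπ p Q'
  by_contra hne
  have hsup := CfsgLib.Linear.SylowDim.sup_eq_top_sl p R R' fun e => hne (by rw [e])
  have hab : ∀ (R : Sylow p (SL F)), ∀ a ∈ (R : Subgroup (SL F)), ∀ b ∈ (R : Subgroup (SL F)), a * b = b * a := by
    intro R a ha b hb
    obtain ⟨d, -, hd, h1, h2⟩ := CfsgLib.Linear.SylowDim.char_facts (F := F) p
    have hidx : ¬ p ∣ (CfsgLib.Linear.SylowDim.us F).index := by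
      rw [CfsgLib.SL2C.index_eq_of_card (T := CfsgLib.Linear.SylowDim.us F)
        (k := (Nat.card F - 1) * (Nat.card F + 1))
        (by rw [CfsgLib.Linear.SylowDim.card_us, CfsgLib.SL2C.natCard_SL_factor, Nat.card_eq_fintype_card])]
      simp [(Fact.out : p.Prime).dvd_mul, h1, h2, -Nat.card_eq_fintype_card]
    obtain ⟨g, hg⟩ := CfsgLib.SL2C.sylow_exists_conj_le R _ hidx
    obtain ⟨a', ha', rfl⟩ := hg ha
    obtain ⟨b', hb', rfl⟩ := hg hb
    rw [← map_mul, ← map_mul]
    congr 1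
    have hs : ∀ u ∈ CfsgLib.Linear.SylowDim.us F, ∃ t : F, u = bor 1 t := by
      intro u hu
      have hc := CfsgLib.Linear.SylowDim.card_us (F := F)
      have hinj : Function.Injective fun t : F =>
          (⟨bor 1 t, CfsgLib.Linear.SylowDim.bor_one_mem t⟩ : CfsgLib.Linear.SylowDim.us F) :=
        fun s t e => (bor_inj (congrArg Subtype.val e)).2
      obtain ⟨t, ht⟩ := ((Nat.bijective_iff_injective_and_card _).mpr ⟨hinj, hc.symm⟩).2 ⟨u, hu⟩
      exact ⟨t, (congrArg Subtype.val ht).symm⟩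
    obtain ⟨s, rfl⟩ := hs a' ha'
    obtain ⟨t, rfl⟩ := hs b' hb'
    rw [bor_mul, bor_mul]
    simp [add_comm]
  have hle : ∀ R : Sylow p (SL F), x ∈ ((R.mapSurjective hπ : Sylow p _) : Subgroup _) →
      (R : Subgroup (SL F)) ≤ (Subgroup.centralizer ({x} : Set _)).comap (QuotientGroup.mk' (Subgroup.center (SL F))) := by
    intro R hxR a ha
    rw [Sylow.coe_mapSurjective] at hxR
    obtain ⟨u, hu, rfl⟩ := hxR
    rw [Subgroup.mem_comap, Subgroup.mem_centralizer_singleton_iff, ← map_mul, hab R a ha u hu, map_mul]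
  have htop : (Subgroup.centralizer ({x} : Set _)).comap (QuotientGroup.mk' (Subgroup.center (SL F))) = ⊤ :=
    top_le_iff.mp (hsup ▸ sup_le (hle R hx) (hle R' hx'))
  apply hx1
  rw [← Subgroup.mem_bot, ← hcen', Subgroup.mem_center_iff]
  intro g
  obtain ⟨a, rfl⟩ := hπ g
  have : a ∈ (Subgroup.centralizer ({x} : Set _)).comap (QuotientGroup.mk' (Subgroup.center (SL F))) :=
    htop ▸ Subgroup.mem_top a
  exact Subgroup.mem_centralizer_singleton_iff.mp this

theorem isPronormal_psl_two (hodd : Odd (Fintype.card F))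
    (hs : IsSimpleGroup (Matrix.ProjectiveSpecialLinearGroup (Fin 2) F))
    {H : Subgroup (Matrix.ProjectiveSpecialLinearGroup (Fin 2) F)} (hH : ¬ 2 ∣ H.index) :
    Cfsg.IsPronormal H := by
  classical
  have : Fact (Nat.Prime 2) := ⟨Nat.prime_two⟩
  have hπ : Function.Surjective (QuotientGroup.mk' (Subgroup.center (SL F))) := QuotientGroup.mk'_surjective _
  rcases (show (Fintype.card F % 8 = 1 ∨ Fintype.card F % 8 = 7) ∨
      (Fintype.card F % 8 = 3 ∨ Fintype.card F % 8 = 5) by have := Nat.odd_iff.mp hodd; omega) with h8 | h8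
  · obtain ⟨S⟩ := (inferInstance : Nonempty (Sylow 2 (SL F)))
    obtain ⟨T, y, w, h⟩ := exists_twoShape hodd S
    have hN := h.self_normalizing (h.isPGroup (S' := S) rfl) hodd (h.eight.mpr h8)
    have hinv : SylowOvergroupsInvariant 2 (SL F) :=
      ⟨S, fun X hX => le_of_eq_of_le hN (hX.trans Subgroup.le_normalizer)⟩
    exact isPronormal_of_invariant (invariant_of_surjective _ hπ hinv) hH
  rcases (inferInstance : (Subgroup.center (Matrix.ProjectiveSpecialLinearGroup (Fin 2) F)).Normal).eq_bot_or_eq_top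
    with hcen | hcen
  swap
  · intro g
    refine ⟨1, one_mem _, ?_⟩
    have he : MulAut.conj g = MulAut.conj (1 : Matrix.ProjectiveSpecialLinearGroup (Fin 2) F) :=
      MulEquiv.ext fun z => by
        have hz : z ∈ Subgroup.center (Matrix.ProjectiveSpecialLinearGroup (Fin 2) F) :=
          hcen ▸ Subgroup.mem_top z
        simp [Subgroup.mem_center_iff.mp hz g]
    rw [he]
  obtain ⟨P, hPH⟩ : ∃ P : Sylow 2 (Matrix.ProjectiveSpecialLinearGroup (Fin 2) F),
      (P : Subgroup (Matrix.ProjectiveSpecialLinearGroup (Fin 2) F)) ≤ H := by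
    obtain ⟨P⟩ := (inferInstance : Nonempty (Sylow 2 H))
    have hp : IsPGroup 2 ((P : Subgroup H).map H.subtype) := P.2.map _
    refine ⟨hp.toSylow ?_, Subgroup.map_subtype_le _⟩
    rw [Subgroup.index_map_subtype]
    exact Nat.prime_two.not_dvd_mul P.not_dvd_index hH
  have hK4 := CfsgLib.Linear.SylowTwoSL.isKleinFour_sylow_psl (rfl : Fintype.card F = _) h8 P
  set f := QuotientGroup.mk' (Subgroup.center (SL F)) with hfdef
  obtain ⟨S, rfl⟩ := Sylow.mapSurjective_surjective hπ 2 P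
  set V := ((S.mapSurjective hπ : Sylow 2 _) : Subgroup (Matrix.ProjectiveSpecialLinearGroup (Fin 2) F)) with hVdef
  obtain ⟨T, y, w, h⟩ := exists_twoShape hodd S
  have hS := h.isPGroup (S' := S) rfl
  have hy4 : orderOf y = 4 := by
    obtain ⟨j, hj⟩ := IsPGroup.iff_orderOf.mp S.2 ⟨y, h.yS⟩
    rw [Subgroup.orderOf_mk] at hj
    have h4 := h.four
    rw [hj] at h4 ⊢
    have hn8 : ¬ 8 ∣ orderOf y := fun e => by rcases h.eight.mp e with e' | e' <;> omega
    rw [hj] at hn8
    have : j < 3 := by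
      by_contra hc
      exact hn8 (pow_dvd_pow 2 (not_lt.mp hc))
    interval_cases j <;> simp_all
  have hN3 := h.card_normalizer_four hS hodd hy4
  have hzS : Subgroup.center (SL F) ≤ (S : Subgroup (SL F)) := by
    intro z hz
    rcases center_cases hz with rfl | rfl
    · exact one_mem _
    · rw [← h.sq_outer hodd h.wS h.wT]
      exact mul_mem h.wS h.wS
  have hker : f.ker ≤ (S : Subgroup (SL F)) := by rw [hfdef, QuotientGroup.ker_mk']; exact hzS
  set N := Subgroup.normalizer (V : Set (Matrix.ProjectiveSpecialLinearGroup (Fin 2) F))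
  have hsub : ∀ X : Subgroup (Matrix.ProjectiveSpecialLinearGroup (Fin 2) F), V ≤ X → X ≤ N → X = V ∨ X = N := by
    intro X hVX hXN
    set X₀ := X.comap f ⊓ Subgroup.normalizer ((S : Subgroup (SL F)) : Set (SL F))
    have hSX : (S : Subgroup (SL F)) ≤ X₀ :=
      le_inf (fun s hs => hVX (Subgroup.mem_map_of_mem f hs)) Subgroup.le_normalizer
    obtain ⟨d, hd⟩ := Subgroup.card_dvd_of_le hSX
    have h1 : Nat.card X₀ ∣ 3 * Nat.card (S : Subgroup (SL F)) := hN3 ▸ Subgroup.card_dvd_of_le inf_le_right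
    rw [hd, mul_comm 3, Nat.mul_dvd_mul_iff_left Nat.card_pos] at h1
    have hXeq : X = X₀.map f := by
      refine le_antisymm (fun x hx => ?_) ?_
      · obtain ⟨z, hz, rfl⟩ := exists_normalizer_lift f hπ S hker (hXN hx)
        exact Subgroup.mem_map_of_mem f ⟨hx, hz⟩
      · rintro _ ⟨z, hz, rfl⟩; exact hz.1
    rcases (Nat.dvd_prime Nat.prime_three).mp h1 with rfl | rfl
    · left
      rw [hXeq, ← Subgroup.eq_of_le_of_card_ge hSX (by rw [hd, mul_one]), hVdef, Sylow.coe_mapSurjective]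
    · right
      have hX₀ : X₀ = Subgroup.normalizer ((S : Subgroup (SL F)) : Set (SL F)) :=
        Subgroup.eq_of_le_of_card_ge inf_le_right (by rw [hN3, hd, mul_comm])
      refine le_antisymm hXN fun x hx => ?_
      obtain ⟨z, hz, rfl⟩ := exists_normalizer_lift f hπ S hker hx
      rw [hXeq, hX₀]
      exact Subgroup.mem_map_of_mem f hz
  have hV4 : Nat.card V = 4 := hK4.card_four
  have hVcomm : ∀ a ∈ V, ∀ b ∈ V, a * b = b * a := fun a ha b hb =>
    congrArg Subtype.val (mul_comm_of_exponent_two hK4.exponent_two (⟨a, ha⟩ : V) ⟨b, hb⟩)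
  refine isPronormal_of_forall_normalizer (S.mapSurjective hπ) hPH fun n hn => ?_
  set Hn := H.map (MulAut.conj n).toMonoidHom
  set J := H ⊔ Hn
  have hVn : V ≤ Hn := by
    intro v hv
    refine ⟨n⁻¹ * v * n, hPH ?_, by simp [mul_assoc]⟩
    have h1 := (Subgroup.mem_normalizer_iff.mp (inv_mem hn) v).mp hv
    rwa [inv_inv] at h1
  rcases hsub (N ⊓ J) (le_inf Subgroup.le_normalizer (hPH.trans le_sup_left)) inf_le_left with hNJ | hNJ
  swap
  · exact ⟨n, (hNJ.ge hn).2, rfl⟩
  -- Burnside: a normal odd complement `L` to `V` in `J`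
  have hVJ : V ≤ J := hPH.trans le_sup_left
  let PJ := (S.mapSurjective hπ).subtype hVJ
  have hburn : Subgroup.normalizer ((PJ : Subgroup J) : Set J) ≤ Subgroup.centralizer ((PJ : Subgroup J) : Set J) := by
    intro x hx
    have hxV : (x : Matrix.ProjectiveSpecialLinearGroup (Fin 2) F) ∈ V := by
      refine hNJ.le ⟨Subgroup.mem_normalizer_iff.mpr fun z => ?_, x.2⟩
      constructor
      · intro hz
        exact (Subgroup.mem_normalizer_iff.mp hx ⟨z, hVJ hz⟩).mp hz
      · intro hz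
        have hzJ : z ∈ J := by
          have := J.mul_mem (J.mul_mem (J.inv_mem x.2) (hVJ hz)) x.2
          simpa [mul_assoc] using this
        exact (Subgroup.mem_normalizer_iff.mp hx ⟨z, hzJ⟩).mpr hz
    exact fun z hz => Subtype.ext (hVcomm _ hz _ hxV)
  set L₀ := (MonoidHom.transferSylow PJ hburn).ker
  have hL₀ : Subgroup.IsComplement' L₀ (PJ : Subgroup J) := MonoidHom.ker_transferSylow_isComplement' PJ hburn
  have hL₀odd : ¬ 2 ∣ Nat.card L₀ := MonoidHom.not_dvd_card_ker_transferSylow PJ hburn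
  set L := L₀.map J.subtype
  have hLJ : L ≤ J := Subgroup.map_subtype_le _
  have hLodd : ¬ 2 ∣ Nat.card L := by
    rwa [← Nat.card_congr (L₀.equivMapOfInjective _ J.subtype_injective).toEquiv]
  have hsplit : ∀ a ∈ J, ∃ l ∈ L, ∃ v ∈ V, a = l * v := by
    intro a ha
    obtain ⟨⟨l, v⟩, hlv⟩ := hL₀.2 ⟨a, ha⟩
    exact ⟨(l : J), Subgroup.mem_map_of_mem _ l.2, (v : J), v.2, (congrArg Subtype.val hlv).symm⟩
  have hconjL : ∀ a ∈ J, ∀ l ∈ L, a * l * a⁻¹ ∈ L := by
    rintro a ha _ ⟨l, hl, rfl⟩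
    exact Subgroup.mem_map_of_mem J.subtype ((MonoidHom.normal_ker _).conj_mem l hl ⟨a, ha⟩)
  have hdisj : ∀ a ∈ L, a ∈ V → a = 1 := by
    intro a haL haV
    have hd : orderOf a ∣ 2 := orderOf_dvd_of_pow_eq_one (by
      have h0 := Monoid.pow_exponent_eq_one (⟨a, haV⟩ : V)
      rw [hK4.exponent_two] at h0
      simpa using congrArg Subtype.val h0)
    rcases (Nat.dvd_prime Nat.prime_two).mp hd with h1 | h1
    · exact orderOf_eq_one_iff.mp h1
    · have h2 := Subgroup.orderOf_dvd_natCard L haL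
      rw [h1] at h2
      exact absurd h2 hLodd
  have hcardX : ∀ X : Subgroup (Matrix.ProjectiveSpecialLinearGroup (Fin 2) F), V ≤ X → X ≤ J →
      Nat.card X = Nat.card (X ⊓ L : Subgroup _) * 4 := by
    intro X hVX hXJ
    rw [← hV4, ← Nat.card_prod]
    refine (Nat.card_eq_of_bijective (fun r : (X ⊓ L : Subgroup _) × V =>
      (⟨(r.1 : Matrix.ProjectiveSpecialLinearGroup (Fin 2) F) * r.2, mul_mem r.1.2.1 (hVX r.2.2)⟩ : X))
      ⟨?_, ?_⟩).symm
    · rintro ⟨l, v⟩ ⟨l', v'⟩ e
      have e' : (l : Matrix.ProjectiveSpecialLinearGroup (Fin 2) F) * v = l' * v' := congrArg Subtype.val e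
      have h1 : (l' : Matrix.ProjectiveSpecialLinearGroup (Fin 2) F)⁻¹ * l = v' * (v : Matrix.ProjectiveSpecialLinearGroup (Fin 2) F)⁻¹ := by
        rw [eq_mul_inv_iff_mul_eq, mul_assoc, e', inv_mul_cancel_left]
      have h2 := hdisj _ (mul_mem (inv_mem l'.2.2) l.2.2) (h1 ▸ mul_mem v'.2 (inv_mem v.2))
      rw [inv_mul_eq_one] at h2
      have hl : l' = l := Subtype.ext h2
      subst hl
      exact Prod.ext rfl (Subtype.ext (mul_left_cancel e'))
    · rintro ⟨a, ha⟩
      obtain ⟨l, hl, v, hv, rfl⟩ := hsplit a (hXJ ha)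
      refine ⟨(⟨l, ?_, hl⟩, ⟨v, hv⟩), rfl⟩
      simpa using X.mul_mem ha (X.inv_mem (hVX hv))
  -- `L` is cyclic
  have hLcyc : IsCyclic L := by
    obtain ⟨p, hp⟩ := CharP.exists F
    obtain ⟨d, hpp, hd⟩ := FiniteField.card F p
    have : Fact p.Prime := ⟨hpp⟩
    have hp2 : p ≠ 2 := by
      rintro rfl
      exact (Nat.not_even_iff_odd.mpr hodd) (by rw [hd]; exact Nat.even_pow.mpr ⟨even_two, d.2.ne'⟩)
    have hFodd : Odd (Nat.card F) := by rwa [Nat.card_eq_fintype_card]
    have hLtop : L ≠ ⊤ := fun e => hLodd (by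
      have hd := Subgroup.card_subgroup_dvd_card V
      rw [hV4] at hd
      rw [e, Subgroup.card_top]
      exact (dvd_trans ⟨2, rfl⟩ hd))
    rcases proper_cases p L hLtop with ⟨Q, hpL, hLQ⟩ | ⟨hc, -, -⟩ | ⟨k, -, -, -, hc, -⟩ | ⟨-, hc, -⟩ |
      ⟨-, hc, -⟩ | ⟨-, -, hc, -⟩ | ⟨e, k, he, -, -, hc⟩
    · exfalso
      have : Fintype L := Fintype.ofFinite L
      obtain ⟨⟨x, hxL⟩, hx⟩ := exists_prime_orderOf_dvd_card' (G := L) p hpL
      rw [Subgroup.orderOf_mk] at hx
      have hx1 : x ≠ 1 := fun e => hpp.ne_one (by rw [← hx, e, orderOf_one])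
      have hin : ∀ z ∈ Subgroup.normalizer ((Q : Subgroup (Matrix.ProjectiveSpecialLinearGroup (Fin 2) F)) : Set (Matrix.ProjectiveSpecialLinearGroup (Fin 2) F)),
          z ^ p = 1 → z ∈ (Q : Subgroup (Matrix.ProjectiveSpecialLinearGroup (Fin 2) F)) := by
        intro z hz hzp
        have hgp : IsPGroup p (Subgroup.zpowers z) := by
          rintro ⟨_, i, rfl⟩
          refine ⟨1, Subtype.ext ?_⟩
          simp only [SubmonoidClass.coe_pow, OneMemClass.coe_one, pow_one]
          rw [← zpow_natCast, ← _root_.zpow_mul, mul_comm, _root_.zpow_mul, zpow_natCast, hzp, _root_.one_zpow]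
        exact ((hgp.inf_normalizer_sylow Q).le ⟨Subgroup.mem_zpowers z, hz⟩).2
      have hxp : x ^ p = 1 := hx ▸ pow_orderOf_eq_one x
      have hxQ := hin x (hLQ hxL) hxp
      have hVN : V ≤ Subgroup.normalizer ((Q : Subgroup (Matrix.ProjectiveSpecialLinearGroup (Fin 2) F)) : Set (Matrix.ProjectiveSpecialLinearGroup (Fin 2) F)) := by
        intro v hv
        refine Sylow.smul_eq_iff_mem_normalizer.mp ?_
        refine sylow_ti_psl hcen (v • Q) Q (x := v * x * v⁻¹) ?_ ?_ ?_
        · rw [Sylow.coe_subgroup_smul, Subgroup.pointwise_smul_def]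
          exact ⟨x, hxQ, rfl⟩
        · exact hin _ (hLQ (hconjL v (hVJ hv) x hxL)) (by rw [conj_pow, hxp]; simp)
        · simpa using hx1
      have h4 := Subgroup.card_dvd_of_le hVN
      rw [hV4, card_normalizer, gcd_eq_two hFodd, Nat.card_eq_fintype_card] at h4
      have h4' : 4 ∣ (Fintype.card F - 1) / 2 :=
        (Nat.Coprime.pow_left 2 (Nat.coprime_two_left.mpr hodd)).dvd_of_dvd_mul_left h4
      omega
    · exact hc
    · exact absurd (hc ▸ dvd_mul_right 2 k) hLodd
    · exact absurd (hc ▸ (by norm_num : 2 ∣ 12)) hLodd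
    · exact absurd (hc ▸ (by norm_num : 2 ∣ 24)) hLodd
    · exact absurd (hc ▸ (by norm_num : 2 ∣ 60)) hLodd
    · exfalso
      obtain ⟨j, hj⟩ := (hpp.odd_of_ne_two hp2).pow (n := e)
      have h8 : 4 * 2 ∣ (p ^ e) * ((p ^ e) ^ 2 - 1) := by
        refine Dvd.dvd.mul_left ?_ _
        rw [hj, show (2 * j + 1) ^ 2 - 1 = 4 * (j * (j + 1)) by
          have : (2 * j + 1) ^ 2 = 4 * (j * (j + 1)) + 1 := by ring
          omega]
        exact Nat.mul_dvd_mul_left 4 (Nat.even_mul_succ_self j).two_dvd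
      rcases hc with ⟨hc, -⟩ | ⟨-, hc, -⟩
      · rw [← hc] at h8; exact hLodd (dvd_trans (by norm_num) h8)
      · rw [← hc, show 4 * 2 = 2 * 4 from rfl, Nat.mul_dvd_mul_iff_left two_pos] at h8
        exact hLodd (dvd_trans (by norm_num) h8)
  -- hence `H` and its conjugate coincide
  refine ⟨1, one_mem _, ?_⟩
  have hcardn : Nat.card Hn = Nat.card H :=
    Nat.card_congr (H.equivMapOfInjective _ (MulAut.conj n).injective).symm.toEquiv
  have hK : Nat.card (Hn ⊓ L : Subgroup _) = Nat.card (H ⊓ L : Subgroup _) := by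
    have h1 := hcardX Hn hVn le_sup_right
    have h2 := hcardX H hPH le_sup_left
    rw [hcardn, h2] at h1
    exact (Nat.eq_of_mul_eq_mul_right (by norm_num) h1).symm
  have hKeq : Hn ⊓ L = H ⊓ L := by
    have : Fintype L := Fintype.ofFinite L
    have hmem : ∀ A : Subgroup L, ∀ a : L, a ∈ A ↔ a ^ Nat.card A = 1 := by
      intro A
      have hsub : Finset.univ.filter (fun a : L => a ∈ A) ⊆ Finset.univ.filter (fun a : L => a ^ Nat.card A = 1) :=
        fun a ha => Finset.mem_filter.mpr ⟨Finset.mem_univ a, by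
          have h1 := congrArg Subtype.val (pow_card_eq_one' (x := (⟨a, (Finset.mem_filter.mp ha).2⟩ : A)))
          rwa [SubmonoidClass.coe_pow] at h1⟩
      have heq := Finset.eq_of_subset_of_card_le hsub (by
        refine (IsCyclic.card_pow_eq_one_le Nat.card_pos).trans ?_
        rw [Nat.card_eq_fintype_card, Fintype.card_subtype])
      intro a
      simpa using Finset.ext_iff.mp heq a
    have huniq : ∀ A B : Subgroup L, Nat.card A = Nat.card B → A = B := by
      intro A B hAB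
      ext a
      rw [hmem A, hmem B, hAB]
    have hA : Nat.card ((Hn ⊓ L).subgroupOf L) = Nat.card ((H ⊓ L).subgroupOf L) := by
      rw [Nat.card_congr (Subgroup.subgroupOfEquivOfLe inf_le_right).toEquiv,
        Nat.card_congr (Subgroup.subgroupOfEquivOfLe inf_le_right).toEquiv, hK]
    have := congrArg (Subgroup.map L.subtype) (huniq _ _ hA)
    rwa [Subgroup.subgroupOf_map_subtype, Subgroup.subgroupOf_map_subtype, inf_assoc, inf_idem, inf_assoc,
      inf_idem] at this
  have hid : H.map (MulAut.conj (1 : Matrix.ProjectiveSpecialLinearGroup (Fin 2) F)).toMonoidHom = H := by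
    convert Subgroup.map_id H
    ext z
    simp
  rw [hid]
  refine le_antisymm ?_ ?_
  · intro a ha
    obtain ⟨l, hl, v, hv, rfl⟩ := hsplit a ((le_sup_right : Hn ≤ J) ha)
    have : l ∈ Hn ⊓ L := ⟨by simpa using Hn.mul_mem ha (Hn.inv_mem (hVn hv)), hl⟩
    rw [hKeq] at this
    exact H.mul_mem this.1 (hPH hv)
  · intro a ha
    obtain ⟨l, hl, v, hv, rfl⟩ := hsplit a ((le_sup_left : H ≤ J) ha)
    have : l ∈ H ⊓ L := ⟨by simpa using H.mul_mem ha (H.inv_mem (hPH hv)), hl⟩
    rw [← hKeq] at this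
    exact Hn.mul_mem this.1 (hVn hv)

end PSL

end CfsgLib.Pronormal
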